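import Mathlib
import Cfsg.Agent.Lib.H6.Symp
import Cfsg.Agent.Lib.H6.SympCard
import Cfsg.Agent.Lib.H6.Frame

/-!
`Sp₄(2) ≃ S₆`.
-/

set_option autoImplicit false
set_option linter.unusedSimpArgs false
set_option linter.unusedVariables false

namespace H6.SmallIsoC

open Matrix Equiv H6.Symp

section natural

variable {l R : Type*} [DecidableEq l] [Fintype l] [CommRing R]

/-- the natural module -/
def natEnd : symplecticGroup l R →* AddMonoid.End (l ⊕ l → R) where
  toFun g :=
    { toFun := fun v => g.1 *ᵥ v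
      map_zero' := by simp
      map_add' := by intro A B; rw [mulVec_add] }
  map_one' := by
    ext A : 1
    show (1 : Matrix (l ⊕ l) (l ⊕ l) R) *ᵥ A = A
    rw [one_mulVec]
  map_mul' g h := by
    ext A : 1
    show (g.1 * h.1) *ᵥ A = g.1 *ᵥ (h.1 *ᵥ A)
    rw [mulVec_mulVec]

lemma natEnd_apply (g : symplecticGroup l R) (v : l ⊕ l → R) : natEnd g v = g.1 *ᵥ v := rfl

end natural

section transport

variable {l R S : Type*} [DecidableEq l] [Fintype l] [CommRing R] [CommRing S]

lemma map_mem (e : R ≃+* S) {A : Matrix (l ⊕ l) (l ⊕ l) R} (hA : A ∈ symplecticGroup l R) :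
    A.map e ∈ symplecticGroup l S := by
  rw [_root_.SymplecticGroup.mem_iff] at hA ⊢
  have h1 : (J l R).map e = J l S := by
    ext (i | i) (j | j) <;> simp [J, Matrix.fromBlocks, Matrix.map_apply, Matrix.one_apply, apply_ite e]
  rw [← h1, ← transpose_map, ← Matrix.map_mul, ← Matrix.map_mul, hA]

/-- `Sp` over isomorphic rings -/
def spCongr (e : R ≃+* S) : symplecticGroup l R ≃* symplecticGroup l S where
  toFun A := ⟨A.1.map e, map_mem e A.2⟩
  invFun A := ⟨A.1.map e.symm, map_mem e.symm A.2⟩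
  left_inv A := by
    apply Subtype.ext
    ext i j
    simp
  right_inv A := by
    apply Subtype.ext
    ext i j
    simp
  map_mul' A B := by
    apply Subtype.ext
    show (A.1 * B.1).map e = A.1.map e * B.1.map e
    rw [Matrix.map_mul]

end transport

section six

instance : Fact (Nat.Prime 2) := ⟨by norm_num⟩

/-- vectors -/
def vec (a b c d : ZMod 2) : Fin 2 ⊕ Fin 2 → ZMod 2 := Sum.elim ![a, b] ![c, d]

/-- the frame -/
def frameS : Fin 6 → (Fin 2 ⊕ Fin 2 → ZMod 2) :=
  ![vec 0 0 0 0, vec 0 0 0 1, vec 0 1 0 0, vec 0 1 1 1, vec 1 1 0 1, vec 1 1 1 1]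

lemma frameS_injective : Function.Injective frameS := by decide +kernel

lemma frameS_rigid : Frame.Rigid frameS := by
  refine Frame.rigid_of frameS_injective 0 ?_
  decide +kernel

lemma frameS_zero : frameS 0 = 0 := by decide +kernel

lemma frameS_all : ∀ u : Fin 2 ⊕ Fin 2 → ZMod 2, ∃ s : Fin 6, ∀ k : Fin 6, ∃ j : Fin 6,
    frameS k + (∑ i, (u (.inr i) * frameS k (.inl i) - u (.inl i) * frameS k (.inr i))) • u =
      frameS j + frameS s := by
  decide +kernel

lemma frameS_span : ∀ u : Fin 2 ⊕ Fin 2 → ZMod 2, ∃ i j : Fin 6, u = frameS i + frameS j := by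
  decide +kernel

lemma frameS_top : Frame.frameSubgroup (natEnd (l := Fin 2) (R := ZMod 2)) frameS = ⊤ := by
  apply eq_top_of_tv_mem
  intro a u
  have ha : a = 0 ∨ a = 1 := by revert a; decide
  rcases ha with rfl | rfl
  · rw [tv_zero]
    exact Subgroup.one_mem _
  · obtain ⟨s, hs⟩ := frameS_all u
    refine Frame.mem_frameSubgroup_of _ frameS_injective (frameS s) (fun k => ?_)
    obtain ⟨j, hj⟩ := hs k
    refine ⟨j, ?_⟩
    rw [natEnd_apply, tv_mulVec, bf_eq_sum, one_mul]
    exact hj

theorem hom_injective : Function.Injective (Frame.frameHom frameS_rigid frameS_top) := by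
  rw [injective_iff_map_eq_one]
  intro g hg
  obtain ⟨c, hc⟩ := Frame.frameHom_spec frameS_rigid frameS_top g
  rw [hg] at hc
  have h3 : ∀ i, (1 : Perm (Fin 6)) i = i := fun i => rfl
  have h0 := hc 0
  rw [h3, frameS_zero, map_zero, zero_add] at h0
  have h1 : ∀ i, g.1 *ᵥ frameS i = frameS i := by
    intro i
    have := hc i
    rw [h3, ← h0, add_zero, natEnd_apply] at this
    exact this
  apply ext_mulVec
  intro u
  obtain ⟨i, j, hu⟩ := frameS_span u
  rw [coe_one_mulVec, hu, mulVec_add, h1, h1]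

theorem sp4_two {F : Type*} [Field F] [Fintype F] (hF : Fintype.card F = 2) :
    Nonempty (Matrix.symplecticGroup (Fin 2) F ≃* Perm (Fin 6)) := by
  have e : F ≃+* ZMod 2 := FiniteField.ringEquivOfCardEq (by rw [hF, ZMod.card])
  have h : Nat.card (symplecticGroup (Fin 2) (ZMod 2)) = Nat.card (Perm (Fin 6)) := by
    rw [H6.SympCard.card_symplecticGroup, Nat.card_perm, Nat.card_eq_fintype_card (α := Fin 6),
      Fintype.card_fin, Fintype.card_fin, Nat.card_zmod]
    decide
  exact ⟨(spCongr e).trans (MulEquiv.ofBijective (Frame.frameHom frameS_rigid frameS_top)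
    ((Nat.bijective_iff_injective_and_card _).2 ⟨hom_injective, h⟩))⟩

end six

end H6.SmallIsoC
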