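import Cfsg.Agent.Lib.H6.SLGen

/-!
Abstract "`SL₂`-systems" of symplectic type: homomorphisms `λ_i : SL₂(F) → Γ` and elements `T_ij(v,w)`.
Here: `SL₂` facts, the definition of a system, first consequences.
-/

set_option autoImplicit false

namespace H6.SpSys

open Matrix

variable {F : Type*} [Field F]

/-- alternating form on `F²` -/
def om (v w : Fin 2 → F) : F := v 0 * w 1 - v 1 * w 0

lemma om_self (v : Fin 2 → F) : om v v = 0 := by unfold om; ring
lemma om_swap (v w : Fin 2 → F) : om v w = - om w v := by unfold om; ring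
lemma om_add_left (u v w : Fin 2 → F) : om (u + v) w = om u w + om v w := by
  unfold om; simp only [Pi.add_apply]; ring
lemma om_add_right (u v w : Fin 2 → F) : om u (v + w) = om u v + om u w := by
  unfold om; simp only [Pi.add_apply]; ring
lemma om_sub_left (u v w : Fin 2 → F) : om (u - v) w = om u w - om v w := by
  unfold om; simp only [Pi.sub_apply]; ring
lemma om_sub_right (u v w : Fin 2 → F) : om u (v - w) = om u v - om u w := by
  unfold om; simp only [Pi.sub_apply]; ring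
lemma om_neg_left (u v : Fin 2 → F) : om (-u) v = - om u v := by
  unfold om; simp only [Pi.neg_apply]; ring
lemma om_neg_right (u v : Fin 2 → F) : om u (-v) = - om u v := by
  unfold om; simp only [Pi.neg_apply]; ring
lemma om_smul_left (a : F) (u v : Fin 2 → F) : om (a • u) v = a * om u v := by
  unfold om; simp only [Pi.smul_apply, smul_eq_mul]; ring
lemma om_smul_right (a : F) (u v : Fin 2 → F) : om u (a • v) = a * om u v := by
  unfold om; simp only [Pi.smul_apply, smul_eq_mul]; ring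
@[simp] lemma om_zero_left (v : Fin 2 → F) : om 0 v = 0 := by simp [om]
@[simp] lemma om_zero_right (v : Fin 2 → F) : om v 0 = 0 := by simp [om]

/-- first basis vector -/
def ee (F : Type*) [Field F] : Fin 2 → F := ![1, 0]
/-- second basis vector -/
def ff (F : Type*) [Field F] : Fin 2 → F := ![0, 1]

@[simp] lemma ee0 : ee F 0 = 1 := rfl
@[simp] lemma ee1 : ee F 1 = 0 := rfl
@[simp] lemma ff0 : ff F 0 = 0 := rfl
@[simp] lemma ff1 : ff F 1 = 1 := rfl

lemma om_ee_ff : om (ee F) (ff F) = 1 := by simp [om]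
lemma om_ff_ee : om (ff F) (ee F) = -1 := by simp [om]

lemma ee_ne : ee F ≠ 0 := fun h => one_ne_zero (congrFun h 0)
lemma ff_ne : ff F ≠ 0 := fun h => one_ne_zero (congrFun h 1)

lemma decomp (v : Fin 2 → F) : v = v 0 • ee F + v 1 • ff F := by
  ext i; fin_cases i <;> simp

lemma om_ee_right (v : Fin 2 → F) : om v (ee F) = - v 1 := by simp [om]
lemma om_ff_right (v : Fin 2 → F) : om v (ff F) = v 0 := by simp [om]

lemma exists_om {v : Fin 2 → F} (h : v ≠ 0) : ∃ w, om v w = 1 := by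
  by_cases h0 : v 0 = 0
  · have h1 : v 1 ≠ 0 := by
      intro h1; apply h; ext i; fin_cases i
      · exact h0
      · exact h1
    refine ⟨![-(v 1)⁻¹, 0], ?_⟩
    simp [om, h1]
  · exact ⟨![0, (v 0)⁻¹], by simp [om, h0]⟩

/-- action of `SL₂` on vectors -/
lemma om_act (g : SpecialLinearGroup (Fin 2) F) (v w : Fin 2 → F) : om (g.1 *ᵥ v) (g.1 *ᵥ w) = om v w := by
  have h := g.2
  rw [Matrix.det_fin_two] at h
  unfold om
  simp only [Matrix.mulVec, dotProduct, Fin.sum_univ_two]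
  linear_combination (v 0 * w 1 - v 1 * w 0) * h

lemma one_act (v : Fin 2 → F) : (1 : SpecialLinearGroup (Fin 2) F).1 *ᵥ v = v := by
  change (1 : Matrix (Fin 2) (Fin 2) F) *ᵥ v = v
  rw [Matrix.one_mulVec]

lemma mul_act (g h : SpecialLinearGroup (Fin 2) F) (v : Fin 2 → F) : (g * h).1 *ᵥ v = g.1 *ᵥ (h.1 *ᵥ v) := by
  change (g.1 * h.1) *ᵥ v = _
  rw [Matrix.mulVec_mulVec]

lemma inv_act (g : SpecialLinearGroup (Fin 2) F) (v : Fin 2 → F) : (g⁻¹).1 *ᵥ (g.1 *ᵥ v) = v := by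
  rw [← mul_act, inv_mul_cancel, one_act]

lemma act_inv (g : SpecialLinearGroup (Fin 2) F) (v : Fin 2 → F) : g.1 *ᵥ ((g⁻¹).1 *ᵥ v) = v := by
  rw [← mul_act, mul_inv_cancel, one_act]

lemma neg_act (v : Fin 2 → F) : (-1 : SpecialLinearGroup (Fin 2) F).1 *ᵥ v = -v := by
  have : (-1 : SpecialLinearGroup (Fin 2) F).1 = - (1 : Matrix (Fin 2) (Fin 2) F) := by
    simp [SpecialLinearGroup.coe_neg]
  rw [this, Matrix.neg_mulVec, Matrix.one_mulVec]

lemma ext_act {g h : SpecialLinearGroup (Fin 2) F} (he : g.1 *ᵥ ee F = h.1 *ᵥ ee F) (hf : g.1 *ᵥ ff F = h.1 *ᵥ ff F) :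
    g = h := by
  apply Subtype.ext
  apply Matrix.ext_of_mulVec_single
  intro i
  fin_cases i
  · have : (Pi.single 0 1 : Fin 2 → F) = ee F := by ext j; fin_cases j <;> simp [ee]
    simp only [Fin.zero_eta]
    rw [this]; exact he
  · have : (Pi.single 1 1 : Fin 2 → F) = ff F := by ext j; fin_cases j <;> simp [ff]
    simp only [Fin.mk_one]
    rw [this]; exact hf

/-- symplectic transvection of `F²` -/
def tv (v : Fin 2 → F) (c : F) : SpecialLinearGroup (Fin 2) F :=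
  ⟨!![1 + c * v 1 * v 0, -(c * v 0 * v 0); c * v 1 * v 1, 1 - c * v 0 * v 1], by
    rw [Matrix.det_fin_two]
    simp only [Matrix.of_apply, Matrix.cons_val', Matrix.cons_val_zero, Matrix.cons_val_one, Matrix.cons_val_fin_one]
    ring⟩

lemma tv_act (v : Fin 2 → F) (c : F) (x : Fin 2 → F) : (tv v c).1 *ᵥ x = x + (c * om x v) • v := by
  ext i
  fin_cases i <;> simp [tv, om, Matrix.mulVec, dotProduct, Fin.sum_univ_two] <;> ring

lemma tv_zero (v : Fin 2 → F) : tv v 0 = 1 :=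
  ext_act (by rw [tv_act, one_act]; simp) (by rw [tv_act, one_act]; simp)

lemma tv_zero' (c : F) : tv (0 : Fin 2 → F) c = 1 :=
  ext_act (by rw [tv_act, one_act]; simp) (by rw [tv_act, one_act]; simp)

lemma tv_add (v : Fin 2 → F) (c d : F) : tv v (c + d) = tv v c * tv v d := by
  apply ext_act <;>
  · rw [mul_act, tv_act, tv_act, tv_act, om_add_left, om_smul_left, om_self, add_assoc, ← add_smul]
    congr 2; ring

lemma tv_neg (v : Fin 2 → F) (c : F) : tv v (-c) = (tv v c)⁻¹ := by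
  rw [eq_inv_iff_mul_eq_one, ← tv_add, neg_add_cancel, tv_zero]

lemma tv_conj (g : SpecialLinearGroup (Fin 2) F) (v : Fin 2 → F) (c : F) : g * tv v c = tv (g.1 *ᵥ v) c * g := by
  apply ext_act <;>
  · rw [mul_act, mul_act, tv_act, tv_act, om_act, Matrix.mulVec_add, Matrix.mulVec_smul]

lemma tv_smul (a : F) (v : Fin 2 → F) (c : F) : tv (a • v) c = tv v (c * a ^ 2) := by
  apply ext_act <;>
  · rw [tv_act, tv_act, om_smul_right, smul_smul]
    congr 2; ring

lemma tv_neg_vec (v : Fin 2 → F) (c : F) : tv (-v) c = tv v c := by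
  rw [← neg_one_smul F v, tv_smul]; norm_num

lemma exists_act2 {v v' : Fin 2 → F} (h : om v v' = 1) :
    ∃ g : SpecialLinearGroup (Fin 2) F, g.1 *ᵥ ee F = v ∧ g.1 *ᵥ ff F = v' := by
  refine ⟨⟨!![v 0, v' 0; v 1, v' 1], ?_⟩, ?_, ?_⟩
  · rw [Matrix.det_fin_two]
    simp only [Matrix.of_apply, Matrix.cons_val', Matrix.cons_val_zero, Matrix.cons_val_one, Matrix.cons_val_fin_one]
    rw [← h]; unfold om; ring
  · ext i; fin_cases i <;> simp [ee, Matrix.mulVec, dotProduct, Fin.sum_univ_two]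
  · ext i; fin_cases i <;> simp [ff, Matrix.mulVec, dotProduct, Fin.sum_univ_two]

lemma exists_act {v : Fin 2 → F} (h : v ≠ 0) : ∃ g : SpecialLinearGroup (Fin 2) F, g.1 *ᵥ ee F = v := by
  obtain ⟨w, hw⟩ := exists_om h
  obtain ⟨g, hg, -⟩ := exists_act2 hw
  exact ⟨g, hg⟩

lemma act_ne {g : SpecialLinearGroup (Fin 2) F} {v : Fin 2 → F} (h : v ≠ 0) : g.1 *ᵥ v ≠ 0 := by
  intro h0
  apply h
  rw [← inv_act g v, h0, Matrix.mulVec_zero]

/-- stabiliser of the first basis vector -/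
lemma eq_tv_of_fix {g : SpecialLinearGroup (Fin 2) F} (h : g.1 *ᵥ ee F = ee F) : ∃ c, g = tv (ee F) c := by
  have h1 : om (g.1 *ᵥ ee F) (g.1 *ᵥ ff F) = 1 := by rw [om_act, om_ee_ff]
  rw [h] at h1
  have h2 : (g.1 *ᵥ ff F) 1 = 1 := by simpa [om] using h1
  refine ⟨-(g.1 *ᵥ ff F) 0, ext_act ?_ ?_⟩
  · rw [tv_act, om_self, mul_zero, zero_smul, add_zero, h]
  · rw [tv_act, om_ff_ee]
    ext i; fin_cases i
    · simp
    · simp [h2]

/-- a subgroup of `SL₂` containing both unipotent groups is everything -/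
theorem sl2_top {S : Subgroup (SpecialLinearGroup (Fin 2) F)} (he : ∀ c, tv (ee F) c ∈ S) (hf : ∀ c, tv (ff F) c ∈ S) :
    S = ⊤ := by
  apply H6.SLGen.eq_top_of_transvection_mem
  intro i j hij c
  have h1 : SpecialLinearGroup.transvection (ι := Fin 2) (zero_ne_one' (Fin 2)) c = tv (ee F) (-c) := by
    apply Subtype.ext
    rw [SpecialLinearGroup.transvection_coe]
    ext a b; fin_cases a <;> fin_cases b <;> simp [tv, Matrix.single_apply]
  have h2 : SpecialLinearGroup.transvection (ι := Fin 2) (zero_ne_one' (Fin 2)).symm c = tv (ff F) c := by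
    apply Subtype.ext
    rw [SpecialLinearGroup.transvection_coe]
    ext a b; fin_cases a <;> fin_cases b <;> simp [tv, Matrix.single_apply]
  fin_cases i <;> fin_cases j
  · exact absurd rfl hij
  · exact h1 ▸ he _
  · exact h2 ▸ hf _
  · exact absurd rfl hij

/-- the Weyl element -/
def t0 (F : Type*) [Field F] : SpecialLinearGroup (Fin 2) F := ⟨!![0, -1; 1, 0], by simp [Matrix.det_fin_two]⟩

lemma t0_ee : (t0 F).1 *ᵥ ee F = ff F := by
  ext i; fin_cases i <;> simp [t0, ee, Matrix.mulVec, dotProduct, Fin.sum_univ_two]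

lemma t0_ff : (t0 F).1 *ᵥ ff F = - ee F := by
  ext i; fin_cases i <;> simp [t0, Matrix.mulVec, dotProduct, Fin.sum_univ_two]

/-- Bruhat decomposition of `SL₂` -/
lemma bruhat (g : SpecialLinearGroup (Fin 2) F) :
    (∃ a : F, g.1 *ᵥ ee F = a • ee F) ∨ ∃ c b, ∃ a : F, g = tv (ee F) c * t0 F * b ∧ b.1 *ᵥ ee F = a • ee F := by
  by_cases h : (g.1 *ᵥ ee F) 1 = 0
  · left
    refine ⟨(g.1 *ᵥ ee F) 0, ?_⟩
    conv_lhs => rw [decomp (g.1 *ᵥ ee F), h, zero_smul, add_zero]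
  · right
    set α := (g.1 *ᵥ ee F) 0 with hα
    set β := (g.1 *ᵥ ee F) 1 with hβ
    refine ⟨-(α / β), (t0 F)⁻¹ * (tv (ee F) (-(α / β)))⁻¹ * g, β, by group, ?_⟩
    rw [mul_act, mul_act]
    have h1 : g.1 *ᵥ ee F = (tv (ee F) (-(α / β))).1 *ᵥ (β • ff F) := by
      rw [tv_act, om_smul_left, om_ff_ee]
      conv_lhs => rw [decomp (g.1 *ᵥ ee F), ← hα, ← hβ]
      rw [add_comm]
      congr 2
      field_simp
    rw [h1, inv_act, Matrix.mulVec_smul]
    congr 1
    rw [← t0_ee, inv_act]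

/-- an `SL₂`-system of symplectic type -/
structure Sys (Γ : Type*) [Group Γ] (ι : Type*) (F : Type*) [Field F] where
  lam : ι → SpecialLinearGroup (Fin 2) F →* Γ
  T : ι → ι → (Fin 2 → F) → (Fin 2 → F) → Γ
  comm : ∀ {i j : ι}, i ≠ j → ∀ g h, lam i g * lam j h = lam j h * lam i g
  symm : ∀ {i j : ι}, i ≠ j → ∀ v w, T i j v w = T j i w v
  conj : ∀ {i j : ι}, i ≠ j → ∀ g v w, lam i g * T i j v w = T i j (g.1 *ᵥ v) w * lam i g
  comm3 : ∀ {i j k : ι}, i ≠ j → k ≠ i → k ≠ j → ∀ g v w, lam k g * T i j v w = T i j v w * lam k g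
  smul : ∀ {i j : ι}, i ≠ j → ∀ (c : F) v w, T i j (c • v) w = T i j v (c • w)
  mul : ∀ {i j : ι}, i ≠ j → ∀ v w w', T i j v w * T i j v w' = T i j v (w + w') * lam i (tv v (om w' w))
  com : ∀ {i j k : ι}, i ≠ j → i ≠ k → j ≠ k → ∀ v w v' w',
    T i j v w * T i k v' w' = T j k (om v' v • w) w' * T i k v' w' * T i j v w
  disj : ∀ {i j k l : ι}, i ≠ j → k ≠ l → i ≠ k → i ≠ l → j ≠ k → j ≠ l → ∀ v w v' w',
    T i j v w * T k l v' w' = T k l v' w' * T i j v w

namespace Sys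

variable {Γ : Type*} [Group Γ] {ι : Type*} (S : Sys Γ ι F)

lemma T_zero {i j : ι} (h : i ≠ j) (v : Fin 2 → F) : S.T i j v 0 = 1 := by
  have := S.mul h v 0 0
  rw [om_self, tv_zero, map_one, mul_one, add_zero] at this
  exact mul_eq_left.1 this

lemma T_zero' {i j : ι} (h : i ≠ j) (w : Fin 2 → F) : S.T i j 0 w = 1 := by
  rw [S.symm h, S.T_zero h.symm]

lemma T_neg {i j : ι} (h : i ≠ j) (v w : Fin 2 → F) : S.T i j v (-w) = (S.T i j v w)⁻¹ := by
  rw [eq_inv_iff_mul_eq_one, S.mul h, neg_add_cancel, om_neg_right, om_self, neg_zero, tv_zero, map_one, mul_one,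
    S.T_zero h]

lemma T_neg' {i j : ι} (h : i ≠ j) (v w : Fin 2 → F) : S.T i j (-v) w = (S.T i j v w)⁻¹ := by
  rw [S.symm h, S.T_neg h.symm, ← S.symm h]

lemma mul' {i j : ι} (h : i ≠ j) (v v' w : Fin 2 → F) :
    S.T i j v w * S.T i j v' w = S.T i j (v + v') w * S.lam j (tv w (om v' v)) := by
  rw [S.symm h, S.symm h, S.mul h.symm, ← S.symm h]

lemma conj' {i j : ι} (h : i ≠ j) (g : SpecialLinearGroup (Fin 2) F) (v w : Fin 2 → F) :
    S.lam j g * S.T i j v w = S.T i j v (g.1 *ᵥ w) * S.lam j g := by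
  rw [S.symm h, S.conj h.symm, ← S.symm h]

/-- `λ_i(tv v c)` commutes with `T_ij(v,w)` -/
lemma tvT {i j : ι} (h : i ≠ j) (v w : Fin 2 → F) (c : F) :
    S.lam i (tv v c) * S.T i j v w = S.T i j v w * S.lam i (tv v c) := by
  rw [S.conj h, tv_act, om_self, mul_zero, zero_smul, add_zero]

lemma tvT' {i j : ι} (h : i ≠ j) (v w : Fin 2 → F) (c : F) :
    S.lam j (tv w c) * S.T i j v w = S.T i j v w * S.lam j (tv w c) := by
  rw [S.conj' h, tv_act, om_self, mul_zero, zero_smul, add_zero]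

/-- conjugation of `λ_i(g)` by `T_ij(v,w)` -/
lemma T_lam {i j : ι} (h : i ≠ j) (v w : Fin 2 → F) (g : SpecialLinearGroup (Fin 2) F) :
    S.T i j v w * S.lam i g =
      S.lam i g * S.T i j ((g⁻¹).1 *ᵥ v - v) w * S.lam j (tv w (- om v ((g⁻¹).1 *ᵥ v))) * S.T i j v w := by
  have h1 : S.T i j v w * S.lam i g = S.lam i g * S.T i j ((g⁻¹).1 *ᵥ v) w := by
    rw [S.conj h, act_inv]
  have h2 : S.T i j ((g⁻¹).1 *ᵥ v) w * S.T i j (-v) w =
      S.T i j ((g⁻¹).1 *ᵥ v - v) w * S.lam j (tv w (- om v ((g⁻¹).1 *ᵥ v))) := by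
    rw [S.mul' h, ← sub_eq_add_neg, om_neg_left]
  rw [h1, mul_assoc, mul_assoc, ← mul_assoc (S.T i j _ w) (S.lam j _), ← h2, S.T_neg' h]
  group

end Sys

end H6.SpSys
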