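import Cfsg.Agent.Lib.H6.SpSysA

/-!
`SL₂`-systems: the Weyl element of a short root and its action.
-/

set_option autoImplicit false

namespace H6.SpSys

open Matrix

variable {F : Type*} [Field F]

namespace Sys

variable {Γ : Type*} [Group Γ] {ι : Type*} (S : Sys Γ ι F)

lemma aux1 {G : Type*} [Group G] {a b X K : G} (h1 : a * K = K * a) (h3 : b * X = X * b)
    (h4 : b * K = K * b) (h5 : X * K = K * X) : a * X * b * K * X⁻¹ * a = K * (a * b * a) := by
  have h6 : X * (b * K) * X⁻¹ = b * K := by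
    rw [mul_inv_eq_iff_eq_mul, ← mul_assoc, ← h3, mul_assoc, h5, mul_assoc]
  calc a * X * b * K * X⁻¹ * a = a * (X * (b * K) * X⁻¹) * a := by group
    _ = a * (b * K) * a := by rw [h6]
    _ = a * (K * b) * a := by rw [h4]
    _ = (a * K) * b * a := by group
    _ = K * (a * b * a) := by rw [h1]; group

/-- conjugation of a transvection in `λ_i` by `T_ij(v,w)` -/
lemma T_lam_tv {i j : ι} (h : i ≠ j) (v w u : Fin 2 → F) (c : F) :
    S.T i j v w * S.lam i (tv u c) =
      S.lam i (tv u c) * S.T i j ((-(c * om v u)) • u) w * S.lam j (tv w (c * om v u ^ 2)) * S.T i j v w := by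
  have h1 : ((tv u c)⁻¹).1 *ᵥ v = v + (-(c * om v u)) • u := by
    rw [← tv_neg, tv_act]; congr 2; ring
  rw [S.T_lam h, h1, add_sub_cancel_left]
  congr 5
  rw [om_add_right, om_self, om_smul_right]; ring

lemma T_lam_tv' {i j : ι} (h : i ≠ j) (v w u : Fin 2 → F) (c : F) :
    S.T i j v w * S.lam j (tv u c) =
      S.lam j (tv u c) * S.T i j v ((-(c * om w u)) • u) * S.lam i (tv v (c * om w u ^ 2)) * S.T i j v w := by
  rw [S.symm h, S.T_lam_tv h.symm, ← S.symm h]

lemma T_swap {i j : ι} (h : i ≠ j) (v w w' : Fin 2 → F) :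
    S.T i j v w * S.T i j v w' = S.T i j v w' * S.lam i (tv v (2 * om w' w)) * S.T i j v w := by
  have h1 := S.mul h v w w'
  have h2 := S.mul h v w' w
  rw [mul_assoc, S.tvT h, ← mul_assoc, h2, h1, add_comm w' w, mul_assoc, ← map_mul, ← tv_add]
  congr 3
  rw [om_swap w w']; ring

lemma T_swap' {i j : ι} (h : i ≠ j) (v v' w : Fin 2 → F) :
    S.T i j v w * S.T i j v' w = S.T i j v' w * S.lam j (tv w (2 * om v' v)) * S.T i j v w := by
  rw [S.symm h, S.symm h v' w, S.T_swap h.symm]

/-- generic short Weyl element -/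
def gn (i k : ι) (p q r s : Fin 2 → F) : Γ := S.T i k p q * S.T i k (-r) s * S.T i k p q

lemma gn_swap {i k : ι} (h : i ≠ k) (p q r s : Fin 2 → F) : S.gn i k p q r s = S.gn k i q p (-s) (-r) := by
  unfold gn
  rw [S.symm h p q, neg_neg, S.symm h (-r) s]

lemma gn1 {i k : ι} (h : i ≠ k) {p q r s : Fin 2 → F} (hp : om p r = 1) (hs : om s q = 1) (c : F) :
    S.gn i k p q r s * S.lam i (tv p c) = S.lam k (tv s c) * S.gn i k p q r s := by
  set A := S.T i k p q with hA
  set B := S.T i k (-r) s with hB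
  have a1 : A * S.lam i (tv p c) = S.lam i (tv p c) * A := (S.tvT h p q c).symm
  have b1 : B * S.lam i (tv p c) = S.lam i (tv p c) * S.T i k p ((-c) • s) * S.lam k (tv s c) * B := by
    have := S.T_lam_tv h (-r) s p c
    have h1 : om (-r) p = 1 := by rw [om_neg_left, om_swap, neg_neg, hp]
    rw [h1, mul_one, one_pow, mul_one, S.smul h] at this
    exact this
  have a2 : A * S.T i k p ((-c) • s) = S.T i k p ((-c) • s) * S.lam i (tv p (-c + -c)) * A := by
    have := S.T_swap h p q ((-c) • s)
    rw [om_smul_left, hs] at this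
    rw [hA, this]; congr 4; ring
  have a3 : A * S.lam k (tv s c) = S.lam k (tv s c) * S.T i k p (c • s) * S.lam i (tv p c) * A := by
    have := S.T_lam_tv' h p q s c
    have h1 : om q s = -1 := by rw [om_swap, hs]
    rw [h1, mul_neg, mul_one, neg_neg, neg_sq, one_pow, mul_one] at this
    exact this
  have key : S.lam i (tv p c) * S.T i k p ((-c) • s) * S.lam i (tv p (-c + -c)) * S.lam k (tv s c) *
      S.T i k p (c • s) * S.lam i (tv p c) = S.lam k (tv s c) := by
    have hX : S.T i k p (c • s) = (S.T i k p ((-c) • s))⁻¹ := by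
      rw [← S.T_neg h, neg_smul, neg_neg]
    rw [hX, aux1 (S.comm h _ _) (S.tvT h _ _ _) (S.comm h _ _), ← map_mul, ← map_mul, ← tv_add, ← tv_add]
    · have : c + (-c + -c) + c = 0 := by ring
      rw [this, tv_zero, map_one, mul_one]
    · rw [← S.smul h, ← S.tvT' h]
  calc S.gn i k p q r s * S.lam i (tv p c) = A * B * (A * S.lam i (tv p c)) := by
        unfold gn; simp only [mul_assoc]; rfl
    _ = A * (B * S.lam i (tv p c)) * A := by rw [a1]; simp only [mul_assoc]
    _ = (A * S.lam i (tv p c)) * S.T i k p ((-c) • s) * S.lam k (tv s c) * B * A := by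
        rw [b1]; simp only [mul_assoc]
    _ = S.lam i (tv p c) * (A * S.T i k p ((-c) • s)) * S.lam k (tv s c) * B * A := by
        rw [a1]; simp only [mul_assoc]
    _ = S.lam i (tv p c) * S.T i k p ((-c) • s) * S.lam i (tv p (-c + -c)) * (A * S.lam k (tv s c)) * B * A := by
        rw [a2]; simp only [mul_assoc]
    _ = (S.lam i (tv p c) * S.T i k p ((-c) • s) * S.lam i (tv p (-c + -c)) * S.lam k (tv s c) *
      S.T i k p (c • s) * S.lam i (tv p c)) * (A * B * A) := by
        rw [a3]; simp only [mul_assoc]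
    _ = S.lam k (tv s c) * S.gn i k p q r s := by rw [key]; rfl

lemma gn2 {i k : ι} (h : i ≠ k) {p q r s : Fin 2 → F} (hp : om p r = 1) (hs : om s q = 1) (c : F) :
    S.gn i k p q r s * S.lam i (tv r c) = S.lam k (tv q c) * S.gn i k p q r s := by
  set A := S.T i k p q with hA
  set B := S.T i k (-r) s with hB
  have a1 : A * S.lam i (tv r c) = S.lam i (tv r c) * S.T i k (-r) (c • q) * S.lam k (tv q c) * A := by
    have := S.T_lam_tv h p q r c
    rw [hp, mul_one, one_pow, mul_one, neg_smul, ← smul_neg, S.smul h] at this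
    exact this
  have b1 : B * S.lam i (tv r c) = S.lam i (tv r c) * B := by
    rw [hB, ← tv_neg_vec r c, S.tvT h]
  have b2 : B * S.T i k (-r) (c • q) = S.T i k (-r) (c • q) * S.lam i (tv r (-c + -c)) * B := by
    have := S.T_swap h (-r) s (c • q)
    rw [om_smul_left, om_swap q s, hs] at this
    rw [hB, this, tv_neg_vec]; congr 4; ring
  have b3 : B * S.lam k (tv q c) = S.lam k (tv q c) * S.T i k (-r) ((-c) • q) * S.lam i (tv r c) * B := by
    have := S.T_lam_tv' h (-r) s q c
    rw [hs, mul_one, one_pow, mul_one, tv_neg_vec] at this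
    exact this
  have a4 : A * S.lam k (tv q c) = S.lam k (tv q c) * A := (S.tvT' h p q c).symm
  have key : S.lam i (tv r c) * S.T i k (-r) (c • q) * S.lam i (tv r (-c + -c)) * S.lam k (tv q c) *
      S.T i k (-r) ((-c) • q) * S.lam i (tv r c) = S.lam k (tv q c) := by
    have hX : S.T i k (-r) ((-c) • q) = (S.T i k (-r) (c • q))⁻¹ := by
      rw [← S.T_neg h, neg_smul]
    rw [hX, aux1 (S.comm h _ _) _ (S.comm h _ _), ← map_mul, ← map_mul, ← tv_add, ← tv_add]
    · have : c + (-c + -c) + c = 0 := by ring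
      rw [this, tv_zero, map_one, mul_one]
    · rw [← S.smul h, ← S.tvT' h]
    · rw [← tv_neg_vec r, S.tvT h]
  calc S.gn i k p q r s * S.lam i (tv r c) = A * B * (A * S.lam i (tv r c)) := by
        unfold gn; simp only [mul_assoc]; rfl
    _ = A * (B * S.lam i (tv r c)) * S.T i k (-r) (c • q) * S.lam k (tv q c) * A := by
        rw [a1]; simp only [mul_assoc]
    _ = A * S.lam i (tv r c) * (B * S.T i k (-r) (c • q)) * S.lam k (tv q c) * A := by
        rw [b1]; simp only [mul_assoc]
    _ = A * S.lam i (tv r c) * S.T i k (-r) (c • q) * S.lam i (tv r (-c + -c)) * (B * S.lam k (tv q c)) * A := by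
        rw [b2]; simp only [mul_assoc]
    _ = A * (S.lam i (tv r c) * S.T i k (-r) (c • q) * S.lam i (tv r (-c + -c)) * S.lam k (tv q c) *
      S.T i k (-r) ((-c) • q) * S.lam i (tv r c)) * (B * A) := by
        rw [b3]; simp only [mul_assoc]
    _ = (A * S.lam k (tv q c)) * B * A := by rw [key]; simp only [mul_assoc]
    _ = S.lam k (tv q c) * S.gn i k p q r s := by rw [a4]; unfold gn; simp only [mul_assoc]; rfl

lemma gn3 {i k : ι} (h : i ≠ k) {p q r s : Fin 2 → F} (hp : om p r = 1) (hs : om s q = 1) :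
    S.gn i k p q r s * S.T i k p s = S.T i k (-p) s * S.gn i k p q r s := by
  set A := S.T i k p q with hA
  set B := S.T i k (-r) s with hB
  have a1 : A * S.T i k p s = S.T i k p s * S.lam i (tv p 2) * A := by
    have := S.T_swap h p q s
    rw [hs, mul_one] at this
    exact this
  have b1 : B * S.T i k p s = S.T i k p s * S.lam k (tv s (-2)) * B := by
    have := S.T_swap' h (-r) p s
    rw [om_neg_right, hp] at this
    rw [hB, this]; congr 4; ring
  have b2 : B * S.lam i (tv p 2) = S.lam i (tv p 2) * S.T i k ((-2 : F) • p) s * S.lam k (tv s 2) * B := by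
    have := S.T_lam_tv h (-r) s p 2
    have h1 : om (-r) p = 1 := by rw [om_neg_left, om_swap, neg_neg, hp]
    rw [h1, mul_one, one_pow, mul_one] at this
    exact this
  have key : S.T i k p s * S.lam k (tv s (-2)) * (S.lam i (tv p 2) * S.T i k ((-2 : F) • p) s * S.lam k (tv s 2)) =
      S.T i k (-p) s * S.lam i (tv p 2) := by
    have e1 : S.lam i (tv p 2) * S.T i k ((-2 : F) • p) s = S.T i k ((-2 : F) • p) s * S.lam i (tv p 2) := by
      rw [S.smul h, S.tvT h]
    have e2 : S.T i k p s * S.T i k ((-2 : F) • p) s = S.T i k (-p) s := by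
      rw [S.mul' h, om_smul_left, om_self, mul_zero, tv_zero, map_one, mul_one]
      congr 1
      rw [neg_smul, two_smul]; abel
    have e3 : S.lam k (tv s (-2)) * S.T i k ((-2 : F) • p) s = S.T i k ((-2 : F) • p) s * S.lam k (tv s (-2)) :=
      S.tvT' h _ _ _
    calc _ = S.T i k p s * (S.lam k (tv s (-2)) * S.T i k ((-2 : F) • p) s) * (S.lam i (tv p 2) * S.lam k (tv s 2)) := by
          rw [e1]; simp only [mul_assoc]
      _ = (S.T i k p s * S.T i k ((-2 : F) • p) s) * S.lam k (tv s (-2)) * (S.lam k (tv s 2) * S.lam i (tv p 2)) := by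
          rw [e3, S.comm h]; simp only [mul_assoc]
      _ = S.T i k (-p) s * (S.lam k (tv s (-2)) * S.lam k (tv s 2)) * S.lam i (tv p 2) := by
          rw [e2]; simp only [mul_assoc]
      _ = S.T i k (-p) s * S.lam i (tv p 2) := by
          rw [← map_mul, ← tv_add, neg_add_cancel, tv_zero, map_one, mul_one]
  have a2 : A * (S.T i k (-p) s * S.lam i (tv p 2)) = S.T i k (-p) s * A := by
    rw [S.T_neg' h]
    have : A * (S.T i k p s)⁻¹ = (S.T i k p s)⁻¹ * (S.lam i (tv p 2))⁻¹ * A := by
      rw [mul_inv_eq_iff_eq_mul]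
      calc A = (S.T i k p s)⁻¹ * (S.lam i (tv p 2))⁻¹ * (S.lam i (tv p 2) * S.T i k p s) * A := by group
        _ = (S.T i k p s)⁻¹ * (S.lam i (tv p 2))⁻¹ * (S.T i k p s * S.lam i (tv p 2) * A) := by
            rw [S.tvT h]; simp only [mul_assoc]
        _ = (S.T i k p s)⁻¹ * (S.lam i (tv p 2))⁻¹ * A * S.T i k p s := by
            rw [← a1]; simp only [mul_assoc]
    have a0 : A * S.lam i (tv p 2) = S.lam i (tv p 2) * A := (S.tvT h p q 2).symm
    rw [← mul_assoc, this, mul_assoc _ A, a0]
    group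
  calc S.gn i k p q r s * S.T i k p s = A * B * (A * S.T i k p s) := by
        unfold gn; simp only [mul_assoc]; rfl
    _ = A * (B * S.T i k p s) * S.lam i (tv p 2) * A := by rw [a1]; simp only [mul_assoc]
    _ = A * (S.T i k p s * S.lam k (tv s (-2))) * (B * S.lam i (tv p 2)) * A := by rw [b1]; simp only [mul_assoc]
    _ = A * (S.T i k p s * S.lam k (tv s (-2)) * (S.lam i (tv p 2) * S.T i k ((-2 : F) • p) s * S.lam k (tv s 2))) *
        B * A := by rw [b2]; simp only [mul_assoc]
    _ = (A * (S.T i k (-p) s * S.lam i (tv p 2))) * B * A := by rw [key]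
    _ = S.T i k (-p) s * S.gn i k p q r s := by rw [a2]; unfold gn; simp only [mul_assoc]; rfl

/-- the short Weyl element `(x_i, x_k) ↦ (x_k, -x_i)` -/
def nn (i k : ι) : Γ := S.gn i k (ee F) (ff F) (ff F) (ee F)

lemma nn_lam {i k : ι} (h : i ≠ k) (g : SpecialLinearGroup (Fin 2) F) :
    S.nn i k * S.lam i g = S.lam k g * S.nn i k := by
  let P : Subgroup (SpecialLinearGroup (Fin 2) F) :=
    { carrier := {g | S.nn i k * S.lam i g = S.lam k g * S.nn i k}
      one_mem' := by simp
      mul_mem' := by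
        intro a b ha hb
        simp only [Set.mem_ofPred_eq] at ha hb ⊢
        rw [map_mul, map_mul, ← mul_assoc, ha, mul_assoc, hb, mul_assoc]
      inv_mem' := by
        intro a ha
        simp only [Set.mem_ofPred_eq] at ha ⊢
        rw [map_inv, map_inv, mul_inv_eq_iff_eq_mul, mul_assoc, ha]
        group }
  have : P = ⊤ := sl2_top (fun c => S.gn1 h om_ee_ff om_ee_ff c) (fun c => S.gn2 h om_ee_ff om_ee_ff c)
  have h1 : g ∈ P := this ▸ Subgroup.mem_top g
  exact h1

lemma nn_lam' {i k : ι} (h : i ≠ k) (g : SpecialLinearGroup (Fin 2) F) :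
    S.nn i k * S.lam k g = S.lam i g * S.nn i k := by
  let P : Subgroup (SpecialLinearGroup (Fin 2) F) :=
    { carrier := {g | S.nn i k * S.lam k g = S.lam i g * S.nn i k}
      one_mem' := by simp
      mul_mem' := by
        intro a b ha hb
        simp only [Set.mem_ofPred_eq] at ha hb ⊢
        rw [map_mul, map_mul, ← mul_assoc, ha, mul_assoc, hb, mul_assoc]
      inv_mem' := by
        intro a ha
        simp only [Set.mem_ofPred_eq] at ha ⊢
        rw [map_inv, map_inv, mul_inv_eq_iff_eq_mul, mul_assoc, ha]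
        group }
  have h1 : om (ff F) (-(ee F)) = 1 := by rw [om_neg_right, om_ff_ee, neg_neg]
  have h2 : om (-(ff F)) (ee F) = 1 := by rw [om_neg_left, om_ff_ee, neg_neg]
  have : P = ⊤ := by
    apply sl2_top
    · intro c
      have := S.gn2 h.symm h1 h2 c
      rw [tv_neg_vec] at this
      change S.gn i k _ _ _ _ * _ = _ * S.gn i k _ _ _ _
      rw [S.gn_swap h]
      exact this
    · intro c
      have := S.gn1 h.symm h1 h2 c
      rw [tv_neg_vec] at this
      change S.gn i k _ _ _ _ * _ = _ * S.gn i k _ _ _ _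
      rw [S.gn_swap h]
      exact this
  have h3 : g ∈ P := this ▸ Subgroup.mem_top g
  exact h3

lemma conj_both {i k : ι} (h : i ≠ k) (g g' : SpecialLinearGroup (Fin 2) F) (v w : Fin 2 → F) :
    S.lam i g * S.lam k g' * S.T i k v w = S.T i k (g.1 *ᵥ v) (g'.1 *ᵥ w) * (S.lam i g * S.lam k g') := by
  rw [mul_assoc, S.conj' h, ← mul_assoc, S.conj h, mul_assoc]

lemma nn_T {i k : ι} (h : i ≠ k) (v w : Fin 2 → F) :
    S.nn i k * S.T i k v w = S.T i k (-w) v * S.nn i k := by
  by_cases hv : v = 0
  · rw [hv, S.T_zero' h, S.T_zero h, mul_one, one_mul]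
  by_cases hw : w = 0
  · rw [hw, S.T_zero h, neg_zero, S.T_zero' h, mul_one, one_mul]
  obtain ⟨g, hg⟩ := exists_act hv
  obtain ⟨g', hg'⟩ := exists_act hw
  have h1 := S.conj_both h g g' (ee F) (ee F)
  have h2 := S.conj_both h g' g (-(ee F)) (ee F)
  have h3 : S.nn i k * (S.lam i g * S.lam k g') = (S.lam i g' * S.lam k g) * S.nn i k := by
    rw [← mul_assoc, S.nn_lam h, mul_assoc, S.nn_lam' h, ← mul_assoc, S.comm h]
  have h4 : S.nn i k * S.T i k (ee F) (ee F) = S.T i k (-(ee F)) (ee F) * S.nn i k := S.gn3 h om_ee_ff om_ee_ff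
  rw [hg, hg'] at h1
  rw [Matrix.mulVec_neg, hg', hg] at h2
  have h5 : S.T i k v w = S.lam i g * S.lam k g' * S.T i k (ee F) (ee F) * (S.lam i g * S.lam k g')⁻¹ := by
    rw [h1]; group
  have h6 : S.T i k (-w) v = S.lam i g' * S.lam k g * S.T i k (-(ee F)) (ee F) * (S.lam i g' * S.lam k g)⁻¹ := by
    rw [h2]; group
  rw [h5, h6]
  calc S.nn i k * (S.lam i g * S.lam k g' * S.T i k (ee F) (ee F) * (S.lam i g * S.lam k g')⁻¹)
      = (S.nn i k * (S.lam i g * S.lam k g')) * S.T i k (ee F) (ee F) * (S.lam i g * S.lam k g')⁻¹ := by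
        simp only [mul_assoc]
    _ = (S.lam i g' * S.lam k g) * (S.nn i k * S.T i k (ee F) (ee F)) * (S.lam i g * S.lam k g')⁻¹ := by
        rw [h3]; simp only [mul_assoc]
    _ = (S.lam i g' * S.lam k g) * S.T i k (-(ee F)) (ee F) * (S.nn i k * (S.lam i g * S.lam k g')⁻¹) := by
        rw [h4]; simp only [mul_assoc]
    _ = (S.lam i g' * S.lam k g) * S.T i k (-(ee F)) (ee F) * ((S.lam i g' * S.lam k g)⁻¹ * S.nn i k) := by
        congr 1
        rw [mul_inv_eq_iff_eq_mul, mul_assoc, h3]
        group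
    _ = _ := by simp only [mul_assoc]

/-- action of `T_ik(a,b)` on the `j`-parts -/
lemma third {i j k : ι} (hik : i ≠ k) (hij : i ≠ j) (hkj : k ≠ j) (a b z z' w : Fin 2 → F) :
    S.T i k a b * (S.T i j z w * S.T k j z' w) =
      S.T i j (z + om z' b • a) w * S.T k j (z' + om z a • b) w * S.T i k a b := by
  have h1 : S.T i k a b * S.T i j z w = S.T k j (om z a • b) w * S.T i j z w * S.T i k a b :=
    S.com hik hij hkj a b z w
  have h2 : S.T i k a b * S.T k j z' w = S.T i j (om z' b • a) w * S.T k j z' w * S.T i k a b := by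
    have := S.com hik.symm hkj hij b a z' w
    rw [← S.symm hik] at this
    exact this
  have hc : ∀ x y, S.T k j x w * S.T i j y w = S.T i j y w * S.T k j x w := by
    intro x y
    have := S.com hkj.symm hij.symm hik.symm w x w y
    rw [om_self, zero_smul, S.T_zero' hik.symm, one_mul] at this
    rw [S.symm hkj, S.symm hij, this]
  have h3 := S.mul' hij z (om z' b • a) w
  have h4 := S.mul' hkj z' (om z a • b) w
  calc S.T i k a b * (S.T i j z w * S.T k j z' w) = (S.T i k a b * S.T i j z w) * S.T k j z' w := by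
        simp only [mul_assoc]
    _ = S.T k j (om z a • b) w * S.T i j z w * (S.T i k a b * S.T k j z' w) := by rw [h1]; simp only [mul_assoc]
    _ = S.T k j (om z a • b) w * (S.T i j z w * S.T i j (om z' b • a) w) * S.T k j z' w * S.T i k a b := by
        rw [h2]; simp only [mul_assoc]
    _ = (S.T k j (om z a • b) w * S.T i j (z + om z' b • a) w) * S.lam j (tv w (om (om z' b • a) z)) *
        S.T k j z' w * S.T i k a b := by rw [h3]; simp only [mul_assoc]
    _ = S.T i j (z + om z' b • a) w * (S.T k j (om z a • b) w * (S.lam j (tv w (om (om z' b • a) z)) *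
        S.T k j z' w)) * S.T i k a b := by rw [hc]; simp only [mul_assoc]
    _ = S.T i j (z + om z' b • a) w * (S.T k j (om z a • b) w * S.T k j z' w) *
        S.lam j (tv w (om (om z' b • a) z)) * S.T i k a b := by rw [S.tvT' hkj]; simp only [mul_assoc]
    _ = S.T i j (z + om z' b • a) w * S.T k j (z' + om z a • b) w * S.T i k a b := by
        have h5 : S.T k j (om z a • b) w * S.T k j z' w =
            S.T k j (z' + om z a • b) w * S.lam j (tv w (om z' (om z a • b))) := by
          rw [S.mul' hkj, add_comm]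
        rw [h5]
        have h6 : S.lam j (tv w (om z' (om z a • b))) * S.lam j (tv w (om (om z' b • a) z)) = 1 := by
          rw [← map_mul, ← tv_add]
          have : om z' (om z a • b) + om (om z' b • a) z = 0 := by
            rw [om_smul_right, om_smul_left, om_swap a z]; ring
          rw [this, tv_zero, map_one]
        calc _ = S.T i j (z + om z' b • a) w * S.T k j (z' + om z a • b) w *
              (S.lam j (tv w (om z' (om z a • b))) * S.lam j (tv w (om (om z' b • a) z))) * S.T i k a b := by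
              simp only [mul_assoc]
          _ = _ := by rw [h6, mul_one]

lemma nn_third {i j k : ι} (hik : i ≠ k) (hij : i ≠ j) (hkj : k ≠ j) (z z' w : Fin 2 → F) :
    S.nn i k * (S.T i j z w * S.T k j z' w) = S.T i j z' w * S.T k j (-z) w * S.nn i k := by
  have h1 := fun z z' => S.third hik hij hkj (ee F) (ff F) z z' w
  have h2 := fun z z' => S.third hik hij hkj (-(ff F)) (ee F) z z' w
  calc S.nn i k * (S.T i j z w * S.T k j z' w)
      = S.T i k (ee F) (ff F) * S.T i k (-(ff F)) (ee F) *
        (S.T i k (ee F) (ff F) * (S.T i j z w * S.T k j z' w)) := by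
        unfold nn gn; simp only [mul_assoc]
    _ = S.T i k (ee F) (ff F) * (S.T i k (-(ff F)) (ee F) *
        (S.T i j (z + om z' (ff F) • ee F) w * S.T k j (z' + om z (ee F) • ff F) w)) *
          S.T i k (ee F) (ff F) := by rw [h1]; simp only [mul_assoc]
    _ = (S.T i k (ee F) (ff F) * (S.T i j (z + om z' (ff F) • ee F + om (z' + om z (ee F) • ff F) (ee F) • -(ff F)) w *
          S.T k j (z' + om z (ee F) • ff F + om (z + om z' (ff F) • ee F) (-(ff F)) • ee F) w)) *
        (S.T i k (-(ff F)) (ee F) * S.T i k (ee F) (ff F)) := by rw [h2]; simp only [mul_assoc]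
    _ = S.T i j z' w * S.T k j (-z) w * S.nn i k := by
        rw [h1]
        unfold nn gn
        simp only [mul_assoc]
        congr 2
        · ext i; fin_cases i <;> simp [om]
        · congr 1
          ext i; fin_cases i <;> simp [om]

lemma nn_third1 {i j k : ι} (hik : i ≠ k) (hij : i ≠ j) (hkj : k ≠ j) (z w : Fin 2 → F) :
    S.nn i k * S.T i j z w = S.T k j (-z) w * S.nn i k := by
  have := S.nn_third hik hij hkj z 0 w
  rwa [S.T_zero' hkj, S.T_zero' hij, mul_one, one_mul] at this

lemma nn_third2 {i j k : ι} (hik : i ≠ k) (hij : i ≠ j) (hkj : k ≠ j) (z w : Fin 2 → F) :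
    S.nn i k * S.T k j z w = S.T i j z w * S.nn i k := by
  have := S.nn_third hik hij hkj 0 z w
  rwa [S.T_zero' hij, neg_zero, S.T_zero' hkj, mul_one, one_mul] at this

lemma nn_sq {i k : ι} (h : i ≠ k) : S.nn i k * S.nn i k = S.lam i (-1) * S.lam k (-1) := by
  have h1 : S.lam i (-1) * S.nn i k = (S.nn i k)⁻¹ * S.lam i (-1) := by
    have ha := S.conj h (-1) (ee F) (ff F)
    have hb := S.conj h (-1) (-(ff F)) (ee F)
    rw [neg_act] at ha hb
    -- `n = BAB`
    have hn : S.nn i k = S.T i k (-(ff F)) (ee F) * S.T i k (ee F) (ff F) * S.T i k (-(ff F)) (ee F) := by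
      have e1 := S.nn_T h (ee F) (ff F)
      have e2 := S.nn_T h (-(ff F)) (ee F)
      have e3 : S.T i k (-(ee F)) (-(ff F)) = S.T i k (ee F) (ff F) := by
        rw [S.T_neg h, S.T_neg' h, inv_inv]
      rw [e3] at e2
      have e4 : S.nn i k * S.nn i k = (S.T i k (-(ff F)) (ee F) * S.T i k (ee F) (ff F) * S.T i k (-(ff F)) (ee F)) *
          S.nn i k := by
        calc S.nn i k * S.nn i k = (S.nn i k * S.T i k (ee F) (ff F)) * S.T i k (-(ff F)) (ee F) *
              S.T i k (ee F) (ff F) := by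
              conv_lhs => rhs; unfold nn gn
              simp only [mul_assoc]
          _ = S.T i k (-(ff F)) (ee F) * (S.nn i k * S.T i k (-(ff F)) (ee F)) * S.T i k (ee F) (ff F) := by
              rw [e1]; simp only [mul_assoc]
          _ = S.T i k (-(ff F)) (ee F) * S.T i k (ee F) (ff F) * (S.nn i k * S.T i k (ee F) (ff F)) := by
              rw [e2]; simp only [mul_assoc]
          _ = _ := by rw [e1]; simp only [mul_assoc]
      exact mul_right_cancel e4
    have hinv : (S.nn i k)⁻¹ = (S.T i k (ee F) (ff F))⁻¹ * (S.T i k (-(ff F)) (ee F))⁻¹ * (S.T i k (ee F) (ff F))⁻¹ := by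
      unfold nn gn; group
    rw [hinv]
    rw [S.T_neg' h] at ha hb
    have hb' : S.lam i (-1) * S.T i k (-(ff F)) (ee F) = (S.T i k (-(ff F)) (ee F))⁻¹ * S.lam i (-1) := by
      rw [S.conj h, neg_act, ← S.T_neg' h]
    conv_lhs => unfold nn gn
    calc S.lam i (-1) * (S.T i k (ee F) (ff F) * S.T i k (-(ff F)) (ee F) * S.T i k (ee F) (ff F))
        = (S.lam i (-1) * S.T i k (ee F) (ff F)) * S.T i k (-(ff F)) (ee F) * S.T i k (ee F) (ff F) := by
          simp only [mul_assoc]
      _ = (S.T i k (ee F) (ff F))⁻¹ * (S.lam i (-1) * S.T i k (-(ff F)) (ee F)) * S.T i k (ee F) (ff F) := by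
          rw [ha]; simp only [mul_assoc]
      _ = (S.T i k (ee F) (ff F))⁻¹ * (S.T i k (-(ff F)) (ee F))⁻¹ * (S.lam i (-1) * S.T i k (ee F) (ff F)) := by
          rw [hb']; simp only [mul_assoc]
      _ = _ := by rw [ha]; simp only [mul_assoc]
  have h2 := S.nn_lam h (-1)
  have hk : S.lam k (-1) * S.lam k (-1) = 1 := by rw [← map_mul]; simp
  have hi : S.lam i (-1) * S.lam i (-1) = 1 := by rw [← map_mul]; simp
  -- `λ_i n = n⁻¹ λ_i`, `n λ_i = λ_k n`
  have h3 : S.nn i k * S.lam i (-1) * S.nn i k = S.lam i (-1) := by rw [mul_assoc, h1]; group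
  rw [h2] at h3
  calc S.nn i k * S.nn i k = S.lam k (-1) * S.lam k (-1) * (S.nn i k * S.nn i k) := by rw [hk, one_mul]
    _ = S.lam k (-1) * (S.lam k (-1) * S.nn i k * S.nn i k) := by simp only [mul_assoc]
    _ = S.lam k (-1) * S.lam i (-1) := by rw [h3]
    _ = _ := by rw [S.comm h]

end Sys

end H6.SpSys
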