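import Cfsg.Agent.Lib.H6.SpSysB

/-!
`SL₂`-systems: subgroups `gp L`, products `N L i v w`, the action on `ι → F²`, transitivity.
-/

set_option autoImplicit false

namespace H6.SpSys

open Matrix

variable {F : Type*} [Field F]

namespace Sys

variable {Γ : Type*} [Group Γ] {ι : Type*} (S : Sys Γ ι F)

lemma _root_.H6.SpSys.nmem {α : Type*} {L : List α} {i j : α} (hi : i ∉ L) (hj : j ∈ L) : i ≠ j := by
  rintro rfl; exact hi hj

/-- subgroup generated by the part of the system on the indices in `L` -/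
def gens (L : List ι) : Set Γ :=
  {x | (∃ j ∈ L, ∃ g, x = S.lam j g) ∨ ∃ j ∈ L, ∃ l ∈ L, j ≠ l ∧ ∃ v w, x = S.T j l v w}

def gp (L : List ι) : Subgroup Γ := Subgroup.closure (S.gens L)

lemma lam_mem {L : List ι} {j : ι} (h : j ∈ L) (g : SpecialLinearGroup (Fin 2) F) : S.lam j g ∈ S.gp L :=
  Subgroup.subset_closure (Or.inl ⟨j, h, g, rfl⟩)

lemma T_mem {L : List ι} {j l : ι} (h : j ∈ L) (h' : l ∈ L) (hjl : j ≠ l) (v w : Fin 2 → F) :
    S.T j l v w ∈ S.gp L :=
  Subgroup.subset_closure (Or.inr ⟨j, h, l, h', hjl, v, w, rfl⟩)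

lemma gp_mono {L M : List ι} (h : ∀ x ∈ L, x ∈ M) : S.gp L ≤ S.gp M := by
  apply Subgroup.closure_mono
  rintro x (⟨j, hj, g, rfl⟩ | ⟨j, hj, l, hl, hjl, v, w, rfl⟩)
  · exact Or.inl ⟨j, h _ hj, g, rfl⟩
  · exact Or.inr ⟨j, h _ hj, l, h _ hl, hjl, v, w, rfl⟩

/-- `∏_{j ∈ L} T_ij(v, w_j)` -/
def N (L : List ι) (i : ι) (v : Fin 2 → F) (w : ι → Fin 2 → F) : Γ := (L.map (fun j => S.T i j v (w j))).prod

lemma N_nil (i : ι) (v : Fin 2 → F) (w : ι → Fin 2 → F) : S.N [] i v w = 1 := rfl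

lemma N_cons (j : ι) (L : List ι) (i : ι) (v : Fin 2 → F) (w : ι → Fin 2 → F) :
    S.N (j :: L) i v w = S.T i j v (w j) * S.N L i v w := by simp [N]

lemma N_congr {L : List ι} {i : ι} {v : Fin 2 → F} {w w' : ι → Fin 2 → F} (h : ∀ j ∈ L, w j = w' j) :
    S.N L i v w = S.N L i v w' := by
  unfold N
  congr 1
  apply List.map_congr_left
  intro j hj
  rw [h j hj]

lemma N_zero {L : List ι} {i : ι} {v : Fin 2 → F} {w : ι → Fin 2 → F} (hi : i ∉ L) (h : ∀ j ∈ L, w j = 0) :
    S.N L i v w = 1 := by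
  induction L with
  | nil => rfl
  | cons j L ih =>
    rw [List.mem_cons, not_or] at hi
    rw [N_cons, h j (by simp), S.T_zero hi.1, one_mul, ih hi.2 (fun l hl => h l (by simp [hl]))]

lemma N_smul {L : List ι} {i : ι} (hi : i ∉ L) (a : F) (v : Fin 2 → F) (w : ι → Fin 2 → F) :
    S.N L i (a • v) w = S.N L i v (a • w) := by
  induction L with
  | nil => rfl
  | cons j L ih =>
    rw [List.mem_cons, not_or] at hi
    rw [N_cons, N_cons, S.smul hi.1, ih hi.2]
    rfl

lemma lam_N {L : List ι} {i : ι} (hi : i ∉ L) (g : SpecialLinearGroup (Fin 2) F) (v : Fin 2 → F) (w : ι → Fin 2 → F) :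
    S.lam i g * S.N L i v w = S.N L i (g.1 *ᵥ v) w * S.lam i g := by
  induction L with
  | nil => simp [N_nil]
  | cons j L ih =>
    rw [List.mem_cons, not_or] at hi
    rw [N_cons, N_cons, ← mul_assoc, S.conj hi.1, mul_assoc, ih hi.2, mul_assoc]

lemma TT_comm {i j k : ι} (hij : i ≠ j) (hik : i ≠ k) (hjk : j ≠ k) (v w w' : Fin 2 → F) :
    S.T i j v w * S.T i k v w' = S.T i k v w' * S.T i j v w := by
  rw [S.com hij hik hjk, om_self, zero_smul, S.T_zero' hjk, one_mul]

lemma T_N_comm {L : List ι} {i l : ι} (hi : i ∉ L) (hl : l ∉ L) (hil : i ≠ l) (v x : Fin 2 → F) (w : ι → Fin 2 → F) :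
    S.T i l v x * S.N L i v w = S.N L i v w * S.T i l v x := by
  induction L with
  | nil => simp [N_nil]
  | cons j L ih =>
    rw [List.mem_cons, not_or] at hi hl
    rw [N_cons, ← mul_assoc, S.TT_comm hil hi.1 hl.1, mul_assoc, ih hi.2 hl.2, mul_assoc]

lemma N_perm {L M : List ι} {i : ι} (h : L.Perm M) (hL : L.Nodup) (hi : i ∉ L) (v : Fin 2 → F) (w : ι → Fin 2 → F) :
    S.N L i v w = S.N M i v w := by
  unfold N
  apply List.Perm.prod_eq' (h.map _)
  rw [List.pairwise_map]
  refine List.Pairwise.imp_of_mem ?_ hL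
  intro a b ha hb hab
  exact S.TT_comm (nmem hi ha) (nmem hi hb) hab v _ _

lemma N_mul {L : List ι} {i : ι} (hL : L.Nodup) (hi : i ∉ L) (v : Fin 2 → F) (w w' : ι → Fin 2 → F) :
    ∃ c, S.N L i v w * S.N L i v w' = S.N L i v (w + w') * S.lam i (tv v c) := by
  induction L with
  | nil => exact ⟨0, by rw [N_nil, N_nil, N_nil, tv_zero, map_one]⟩
  | cons j L ih =>
    rw [List.mem_cons, not_or] at hi
    rw [List.nodup_cons] at hL
    obtain ⟨c, hc⟩ := ih hL.2 hi.2
    refine ⟨om (w' j) (w j) + c, ?_⟩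
    have h1 := S.lam_N hi.2 (tv v (om (w' j) (w j))) v (w + w')
    rw [tv_act, om_self, mul_zero, zero_smul, add_zero] at h1
    rw [N_cons, N_cons, N_cons]
    calc S.T i j v (w j) * S.N L i v w * (S.T i j v (w' j) * S.N L i v w')
        = S.T i j v (w j) * (S.N L i v w * S.T i j v (w' j)) * S.N L i v w' := by simp only [mul_assoc]
      _ = (S.T i j v (w j) * S.T i j v (w' j)) * (S.N L i v w * S.N L i v w') := by
          rw [← S.T_N_comm hi.2 hL.1 hi.1]; simp only [mul_assoc]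
      _ = S.T i j v (w j + w' j) * (S.lam i (tv v (om (w' j) (w j))) * S.N L i v (w + w')) * S.lam i (tv v c) := by
          rw [S.mul hi.1, hc]; simp only [mul_assoc]
      _ = _ := by rw [h1, tv_add, map_mul]; simp only [mul_assoc]; rfl

lemma N_inv {L : List ι} {i : ι} (hL : L.Nodup) (hi : i ∉ L) (v : Fin 2 → F) (w : ι → Fin 2 → F) :
    ∃ c, (S.N L i v w)⁻¹ = S.N L i v (-w) * S.lam i (tv v c) := by
  obtain ⟨c, hc⟩ := S.N_mul hL hi v w (-w)
  rw [add_neg_cancel, S.N_zero (w := 0) hi (fun _ _ => rfl), one_mul] at hc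
  refine ⟨-c, ?_⟩
  rw [inv_eq_iff_mul_eq_one, ← mul_assoc, hc, tv_neg, map_inv, mul_inv_cancel]

lemma N_mem {L M : List ι} {i : ι} (hi : i ∈ M) (hL : ∀ j ∈ L, j ∈ M) (hiL : i ∉ L) (v : Fin 2 → F)
    (w : ι → Fin 2 → F) : S.N L i v w ∈ S.gp M := by
  apply Subgroup.list_prod_mem
  intro x hx
  rw [List.mem_map] at hx
  obtain ⟨j, hj, rfl⟩ := hx
  exact S.T_mem hi (hL j hj) (fun h => hiL (h ▸ hj)) _ _

/-- `gp L` commutes with `λ_i`, `i ∉ L` -/
lemma gp_lam {L : List ι} {i : ι} (hi : i ∉ L) {γ : Γ} (hγ : γ ∈ S.gp L) (g : SpecialLinearGroup (Fin 2) F) :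
    γ * S.lam i g = S.lam i g * γ := by
  induction hγ using Subgroup.closure_induction with
  | mem x hx =>
    rcases hx with ⟨j, hj, g', rfl⟩ | ⟨j, hj, l, hl, hjl, v, w, rfl⟩
    · exact S.comm (nmem hi hj).symm _ _
    · exact (S.comm3 hjl (nmem hi hj) (nmem hi hl) _ _ _).symm
  | one => simp
  | mul x y _ _ hx hy => rw [mul_assoc, hy, ← mul_assoc, hx, mul_assoc]
  | inv x _ hx => rw [inv_mul_eq_iff_eq_mul, ← mul_assoc, hx, mul_assoc, mul_inv_cancel, mul_one]

variable [DecidableEq ι]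

/-- an action of `Γ` on `ι → F²` compatible with the system -/
structure Rep (S : Sys Γ ι F) where
  ρ : Γ →* Equiv.Perm (ι → Fin 2 → F)
  hlam : ∀ (i : ι) (g : SpecialLinearGroup (Fin 2) F) x, ρ (S.lam i g) x = Function.update x i (g.1 *ᵥ x i)
  hT : ∀ {i j : ι}, i ≠ j → ∀ (v w : Fin 2 → F) x, ρ (S.T i j v w) x =
    Function.update (Function.update x i (x i + om (x j) w • v)) j (x j + om (x i) v • w)

variable {S} (R : Rep S)

lemma Rep.hT_i {i j : ι} (h : i ≠ j) (v w : Fin 2 → F) (x : ι → Fin 2 → F) :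
    R.ρ (S.T i j v w) x i = x i + om (x j) w • v := by
  rw [R.hT h, Function.update_of_ne h, Function.update_self]

lemma Rep.hT_j {i j : ι} (h : i ≠ j) (v w : Fin 2 → F) (x : ι → Fin 2 → F) :
    R.ρ (S.T i j v w) x j = x j + om (x i) v • w := by
  rw [R.hT h, Function.update_self]

lemma Rep.hT_ne {i j k : ι} (h : i ≠ j) (hi : k ≠ i) (hj : k ≠ j) (v w : Fin 2 → F) (x : ι → Fin 2 → F) :
    R.ρ (S.T i j v w) x k = x k := by
  rw [R.hT h, Function.update_of_ne hj, Function.update_of_ne hi]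

lemma Rep.hlam_i (i : ι) (g : SpecialLinearGroup (Fin 2) F) (x : ι → Fin 2 → F) :
    R.ρ (S.lam i g) x i = g.1 *ᵥ x i := by
  rw [R.hlam, Function.update_self]

lemma Rep.hlam_ne {i k : ι} (h : k ≠ i) (g : SpecialLinearGroup (Fin 2) F) (x : ι → Fin 2 → F) :
    R.ρ (S.lam i g) x k = x k := by
  rw [R.hlam, Function.update_of_ne h]

/-- coordinates outside `L` are not changed by `gp L` -/
lemma Rep.out {L : List ι} {γ : Γ} (hγ : γ ∈ S.gp L) : ∀ (x : ι → Fin 2 → F) (k : ι), k ∉ L → R.ρ γ x k = x k := by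
  induction hγ using Subgroup.closure_induction with
  | mem y hy =>
    intro x k hk
    rcases hy with ⟨j, hj, g, rfl⟩ | ⟨j, hj, l, hl, hjl, v, w, rfl⟩
    · exact R.hlam_ne (nmem hk hj) _ _
    · exact R.hT_ne hjl (nmem hk hj) (nmem hk hl) _ _ _
  | one => intro x k _; simp
  | mul a b _ _ ha hb => intro x k hk; rw [map_mul, Equiv.Perm.mul_apply, ha _ _ hk, hb _ _ hk]
  | inv a _ ha =>
    intro x k hk
    have := ha (R.ρ a⁻¹ x) k hk
    rw [← Equiv.Perm.mul_apply, ← map_mul, mul_inv_cancel, map_one, Equiv.Perm.one_apply] at this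
    exact this.symm

/-- vectors vanishing on `L` are fixed by `gp L` -/
lemma Rep.fix {L : List ι} {γ : Γ} (hγ : γ ∈ S.gp L) :
    ∀ (x : ι → Fin 2 → F), (∀ k ∈ L, x k = 0) → R.ρ γ x = x := by
  induction hγ using Subgroup.closure_induction with
  | mem y hy =>
    intro x hx
    rcases hy with ⟨j, hj, g, rfl⟩ | ⟨j, hj, l, hl, hjl, v, w, rfl⟩
    · rw [R.hlam, hx j hj, Matrix.mulVec_zero, ← hx j hj, Function.update_eq_self]
    · rw [R.hT hjl, hx j hj, hx l hl, om_zero_left, om_zero_left, zero_smul, zero_smul, add_zero]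
      have e1 : Function.update x j 0 = x := by rw [← hx j hj, Function.update_eq_self]
      rw [e1, ← hx l hl, Function.update_eq_self]
  | one => intro x _; simp
  | mul a b _ _ ha hb => intro x hx; rw [map_mul, Equiv.Perm.mul_apply, hb x hx, ha x hx]
  | inv a _ ha =>
    intro x hx
    rw [map_inv]
    exact (Equiv.Perm.inv_eq_iff_eq).2 (ha x hx).symm

/-- action of `N` on vectors vanishing on `L` -/
lemma Rep.hN {L : List ι} {i : ι} (hL : L.Nodup) (hi : i ∉ L) (v : Fin 2 → F) (w x : ι → Fin 2 → F)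
    (hx : ∀ k ∈ L, x k = 0) (k : ι) :
    R.ρ (S.N L i v w) x k = if k ∈ L then om (x i) v • w k else x k := by
  induction L generalizing k with
  | nil => simp [N_nil]
  | cons j L ih =>
    rw [List.mem_cons, not_or] at hi
    rw [List.nodup_cons] at hL
    have ih' := ih hL.2 hi.2 (fun k hk => hx k (by simp [hk]))
    rw [N_cons, map_mul, Equiv.Perm.mul_apply]
    have hyj : R.ρ (S.N L i v w) x j = 0 := by rw [ih', if_neg hL.1, hx j (by simp)]
    have hyi : R.ρ (S.N L i v w) x i = x i := by rw [ih', if_neg hi.2]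
    by_cases hkj : k = j
    · subst hkj
      rw [R.hT_j hi.1, hyj, hyi, zero_add, if_pos (by simp)]
    · by_cases hki : k = i
      · subst hki
        rw [R.hT_i hi.1, hyj, om_zero_left, zero_smul, add_zero, hyi, if_neg (by simp [hi.1, hi.2])]
      · rw [R.hT_ne hi.1 hki hkj, ih']
        simp [hkj]

/-- conjugation of `N` by `gp L` -/
lemma Rep.conj_N {L : List ι} {i : ι} (hL : L.Nodup) (hi : i ∉ L) {γ : Γ} (hγ : γ ∈ S.gp L) (v : Fin 2 → F) :
    ∀ w : ι → Fin 2 → F, γ * S.N L i v w = S.N L i v (R.ρ γ w) * γ := by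
  induction hγ using Subgroup.closure_induction with
  | mem y hy =>
    intro w
    rcases hy with ⟨j, hj, g, rfl⟩ | ⟨j, hj, l, hl, hjl, a, b, rfl⟩
    · have hij : i ≠ j := fun h => hi (h ▸ hj)
      have hp := List.perm_cons_erase hj
      rw [S.N_perm hp hL hi, S.N_perm hp hL hi]
      have hn : j ∉ L.erase j := fun h => (List.Nodup.not_mem_erase hL) h
      have hi' : i ∉ L.erase j := fun h => hi (List.mem_of_mem_erase h)
      rw [N_cons, N_cons, R.hlam_i, ← mul_assoc, S.conj' hij]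
      have h1 : ∀ (M : List ι), i ∉ M → j ∉ M → S.lam j g * S.N M i v w = S.N M i v w * S.lam j g := by
        intro M
        induction M with
        | nil => simp [N_nil]
        | cons m M ih =>
          intro h1 h2
          rw [List.mem_cons, not_or] at h1 h2
          rw [N_cons, ← mul_assoc, S.comm3 h1.1 hij.symm h2.1, mul_assoc, ih h1.2 h2.2, mul_assoc]
      rw [mul_assoc, h1 _ hi' hn, S.N_congr (w := R.ρ (S.lam j g) w) (w' := w)
        (fun k hk => R.hlam_ne (nmem hn hk).symm _ _), mul_assoc]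
    · have hij : i ≠ j := fun h => hi (h ▸ hj)
      have hil : i ≠ l := fun h => hi (h ▸ hl)
      have hl' : l ∈ L.erase j := (List.mem_erase_of_ne hjl.symm).2 hl
      have hp : L.Perm (j :: l :: (L.erase j).erase l) :=
        (List.perm_cons_erase hj).trans (List.Perm.cons _ (List.perm_cons_erase hl'))
      set M := (L.erase j).erase l with hM
      have hiM : i ∉ M := fun h => hi (List.mem_of_mem_erase (List.mem_of_mem_erase h))
      have hlM : l ∉ M := fun h => (List.Nodup.not_mem_erase (hL.erase j)) h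
      have hjM : j ∉ M := fun h => (List.Nodup.not_mem_erase hL) (List.mem_of_mem_erase h)
      rw [S.N_perm hp hL hi, S.N_perm hp hL hi]
      rw [N_cons, N_cons, N_cons, N_cons, R.hT_i hjl, R.hT_j hjl]
      have h1 : ∀ (M : List ι), i ∉ M → j ∉ M → l ∉ M → S.T j l a b * S.N M i v w = S.N M i v w * S.T j l a b := by
        intro M
        induction M with
        | nil => simp [N_nil]
        | cons m M ih =>
          intro h1 h2 h3
          rw [List.mem_cons, not_or] at h1 h2 h3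
          rw [N_cons, ← mul_assoc, S.disj hjl h1.1 hij.symm h2.1 hil.symm h3.1, mul_assoc, ih h1.2 h2.2 h3.2,
            mul_assoc]
      have h2 := S.third hjl hij.symm hil.symm a b (w j) (w l) v
      rw [S.symm hij, S.symm hil, S.symm hij, S.symm hil]
      rw [S.N_congr (L := M) (w := R.ρ (S.T j l a b) w) (w' := w)
        (fun k hk => R.hT_ne hjl (nmem hjM hk).symm (nmem hlM hk).symm _ _ _)]
      calc S.T j l a b * (S.T j i (w j) v * (S.T l i (w l) v * S.N M i v w))
          = S.T j l a b * (S.T j i (w j) v * S.T l i (w l) v) * S.N M i v w := by simp only [mul_assoc]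
        _ = S.T j i (w j + om (w l) b • a) v * S.T l i (w l + om (w j) a • b) v * (S.T j l a b * S.N M i v w) := by
            rw [h2]; simp only [mul_assoc]
        _ = _ := by rw [h1 M hiM hjM hlM]; simp only [mul_assoc]
  | one => intro w; simp
  | mul x y _ _ hx hy =>
    intro w
    rw [mul_assoc, hy, ← mul_assoc, hx, map_mul, Equiv.Perm.mul_apply, mul_assoc]
  | inv x _ hx =>
    intro w
    rw [inv_mul_eq_iff_eq_mul, ← mul_assoc, hx, mul_assoc, mul_inv_cancel, mul_one, ← Equiv.Perm.mul_apply,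
      ← map_mul, mul_inv_cancel, map_one, Equiv.Perm.one_apply]

/-- transitivity of `gp (k :: L)` on nonzero vectors -/
theorem Rep.trans {L : List ι} {k : ι} (hL : (k :: L).Nodup) (w : ι → Fin 2 → F) (hw : ∀ j ∉ k :: L, w j = 0)
    (h0 : w ≠ 0) : ∃ γ ∈ S.gp (k :: L), R.ρ γ (Pi.single k (ee F)) = w := by
  have main : ∀ w : ι → Fin 2 → F, (∀ j ∉ k :: L, w j = 0) → w k ≠ 0 →
      ∃ γ ∈ S.gp (k :: L), R.ρ γ (Pi.single k (ee F)) = w := by
    intro w hw hk
    rw [List.nodup_cons] at hL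
    obtain ⟨v, hv⟩ := exists_om hk
    obtain ⟨g, hg⟩ := exists_act hk
    refine ⟨S.N L k v w * S.lam k g, mul_mem (S.N_mem (by simp) (fun j hj => by simp [hj]) hL.1 _ _)
      (S.lam_mem (by simp) _), ?_⟩
    rw [map_mul, Equiv.Perm.mul_apply]
    have h1 : R.ρ (S.lam k g) (Pi.single k (ee F)) = Pi.single k (w k) := by
      rw [R.hlam, Pi.single_eq_same, hg]
      ext j : 1
      by_cases hj : j = k
      · subst hj; simp
      · rw [Function.update_of_ne hj, Pi.single_eq_of_ne hj, Pi.single_eq_of_ne hj]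
    rw [h1]
    ext j : 1
    rw [R.hN hL.2 hL.1 v w _ (fun j hj => Pi.single_eq_of_ne (nmem hL.1 hj).symm _), Pi.single_eq_same, hv,
      one_smul]
    split_ifs with hj
    · rfl
    · by_cases hjk : j = k
      · subst hjk; simp
      · rw [Pi.single_eq_of_ne hjk, hw j (by simp [hjk, hj])]
  by_cases hk : w k = 0
  · obtain ⟨j, hj⟩ : ∃ j, w j ≠ 0 := by
      by_contra hcon
      push Not at hcon
      exact h0 (funext hcon)
    have hjk : j ≠ k := fun h => hj (h ▸ hk)
    have hjL : j ∈ k :: L := by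
      by_contra hcon
      exact hj (hw j hcon)
    obtain ⟨b, hb⟩ := exists_om hj
    obtain ⟨γ, hγ, h1⟩ := main (R.ρ (S.T k j (ee F) b) w) (by
        intro m hm
        rw [R.hT_ne hjk.symm (nmem hm (by simp)) (nmem hm hjL), hw m hm]) (by
        rw [R.hT_i hjk.symm, hk, hb, zero_add, one_smul]; exact ee_ne)
    refine ⟨(S.T k j (ee F) b)⁻¹ * γ, mul_mem (inv_mem (S.T_mem (by simp) hjL hjk.symm _ _)) hγ, ?_⟩
    rw [map_mul, Equiv.Perm.mul_apply, h1, ← Equiv.Perm.mul_apply, ← map_mul, inv_mul_cancel, map_one,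
      Equiv.Perm.one_apply]
  · exact main w hw hk

end Sys

end H6.SpSys
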