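import Cfsg.Agent.Lib.H6.SpSysC

/-!
`SL₂`-systems: point stabiliser, double cosets, faithfulness of the natural action.
-/

set_option autoImplicit false

namespace H6.SpSys

open Matrix

variable {F : Type*} [Field F]

namespace Sys

variable {Γ : Type*} [Group Γ] {ι : Type*} {S : Sys Γ ι F} [DecidableEq ι] (R : Rep S)

/-- the stabiliser of the point `⟨e_i⟩` -/
def Rep.P {L : List ι} {i : ι} (hL : L.Nodup) (hi : i ∉ L) : Subgroup Γ where
  carrier := {x | ∃ (w : ι → Fin 2 → F) (b : SpecialLinearGroup (Fin 2) F) (γ : Γ),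
    (∃ a : F, b.1 *ᵥ ee F = a • ee F) ∧ γ ∈ S.gp L ∧ x = S.N L i (ee F) w * S.lam i b * γ}
  one_mem' := ⟨0, 1, 1, ⟨1, by rw [one_act, one_smul]⟩, one_mem _, by
    rw [S.N_zero (w := 0) hi (fun _ _ => rfl), map_one]; simp⟩
  mul_mem' := by
    rintro _ _ ⟨w, b, γ, ⟨a, hb⟩, hγ, rfl⟩ ⟨w', b', γ', ⟨a', hb'⟩, hγ', rfl⟩
    obtain ⟨c, hc⟩ := S.N_mul hL hi (ee F) w (a • R.ρ γ w')
    refine ⟨w + a • R.ρ γ w', tv (ee F) c * (b * b'), γ * γ', ⟨a * a', ?_⟩, mul_mem hγ hγ', ?_⟩
    · rw [mul_act, mul_act, hb', Matrix.mulVec_smul, hb, tv_act, om_smul_left, om_smul_left, om_self, mul_zero,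
        mul_zero, mul_zero, zero_smul, add_zero, smul_smul, mul_comm]
    · calc S.N L i (ee F) w * S.lam i b * γ * (S.N L i (ee F) w' * S.lam i b' * γ')
          = S.N L i (ee F) w * S.lam i b * (γ * S.N L i (ee F) w') * S.lam i b' * γ' := by simp only [mul_assoc]
        _ = S.N L i (ee F) w * (S.lam i b * S.N L i (ee F) (R.ρ γ w')) * (γ * S.lam i b') * γ' := by
            rw [R.conj_N hL hi hγ]; simp only [mul_assoc]
        _ = (S.N L i (ee F) w * S.N L i (ee F) (a • R.ρ γ w')) * S.lam i b * S.lam i b' * (γ * γ') := by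
            rw [S.lam_N hi, hb, S.N_smul hi, S.gp_lam hi hγ]; simp only [mul_assoc]
        _ = _ := by rw [hc, map_mul, map_mul]; simp only [mul_assoc]
  inv_mem' := by
    rintro _ ⟨w, b, γ, ⟨a, hb⟩, hγ, rfl⟩
    obtain ⟨c, hc⟩ := S.N_inv hL hi (ee F) w
    have hb' : (b⁻¹).1 *ᵥ ee F = a⁻¹ • ee F := by
      have ha : a ≠ 0 := by
        rintro rfl
        rw [zero_smul] at hb
        exact act_ne ee_ne hb
      have : a⁻¹ • (b.1 *ᵥ ee F) = ee F := by rw [hb, smul_smul, inv_mul_cancel₀ ha, one_smul]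
      conv_lhs => rw [← this]
      rw [Matrix.mulVec_smul, inv_act]
    refine ⟨a⁻¹ • R.ρ γ⁻¹ (-w), b⁻¹ * tv (ee F) c, γ⁻¹, ⟨a⁻¹, ?_⟩, inv_mem hγ, ?_⟩
    · rw [mul_act, tv_act, om_self, mul_zero, zero_smul, add_zero, hb']
    · calc (S.N L i (ee F) w * S.lam i b * γ)⁻¹ = (γ⁻¹ * S.lam i (b⁻¹)) * (S.N L i (ee F) w)⁻¹ := by
            rw [map_inv]; group
        _ = S.lam i (b⁻¹) * (γ⁻¹ * S.N L i (ee F) (-w)) * S.lam i (tv (ee F) c) := by
            rw [S.gp_lam hi (inv_mem hγ), hc]; simp only [mul_assoc]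
        _ = (S.lam i (b⁻¹) * S.N L i (ee F) (R.ρ γ⁻¹ (-w))) * (γ⁻¹ * S.lam i (tv (ee F) c)) := by
            rw [R.conj_N hL hi (inv_mem hγ)]; simp only [mul_assoc]
        _ = _ := by
            rw [S.lam_N hi, hb', S.N_smul hi, S.gp_lam hi (inv_mem hγ), map_mul]; simp only [mul_assoc]

section
variable {L : List ι} {i : ι} (hL : L.Nodup) (hi : i ∉ L)
include hL hi

lemma Rep.gp_le_P : S.gp L ≤ R.P hL hi := fun γ hγ =>
  ⟨0, 1, γ, ⟨1, by rw [one_act, one_smul]⟩, hγ, by rw [S.N_zero (w := 0) hi (fun _ _ => rfl), map_one]; simp⟩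

lemma Rep.N_mem_P (a : F) (w : ι → Fin 2 → F) : S.N L i (a • ee F) w ∈ R.P hL hi :=
  ⟨a • w, 1, 1, ⟨1, by rw [one_act, one_smul]⟩, one_mem _, by rw [S.N_smul hi, map_one]; simp⟩

lemma Rep.lam_mem_P {b : SpecialLinearGroup (Fin 2) F} (hb : ∃ a : F, b.1 *ᵥ ee F = a • ee F) :
    S.lam i b ∈ R.P hL hi :=
  ⟨0, b, 1, hb, one_mem _, by rw [S.N_zero (w := 0) hi (fun _ _ => rfl)]; simp⟩

lemma Rep.tv_mem_P (c : F) : S.lam i (tv (ee F) c) ∈ R.P hL hi :=
  R.lam_mem_P hL hi ⟨1, by rw [tv_act, om_self, mul_zero, zero_smul, add_zero, one_smul]⟩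

lemma Rep.neg_mem_P : S.lam i (-1) ∈ R.P hL hi :=
  R.lam_mem_P hL hi ⟨-1, by rw [neg_act, neg_smul, one_smul]⟩

omit [DecidableEq ι] R hL in
lemma N_eq_T {l : ι} [DecidableEq ι] (hL : L.Nodup) (hl : l ∈ L) (v : Fin 2 → F) (w : ι → Fin 2 → F)
    (hw : ∀ j ∈ L, j ≠ l → w j = 0) : S.N L i v w = S.T i l v (w l) := by
  rw [S.N_perm (List.perm_cons_erase hl) hL hi, N_cons, S.N_zero (fun h => hi (List.mem_of_mem_erase h)), mul_one]
  intro j hj
  exact hw j (List.mem_of_mem_erase hj) (fun h => (List.Nodup.not_mem_erase hL) (h ▸ hj))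

lemma Rep.T_mem_P {l : ι} (hl : l ∈ L) (a : F) (w : Fin 2 → F) : S.T i l (a • ee F) w ∈ R.P hL hi := by
  have := R.N_mem_P hL hi a (Pi.single l w)
  rw [N_eq_T hi hL hl _ _ (fun j _ hj => Pi.single_eq_of_ne hj _), Pi.single_eq_same] at this
  exact this

/-- elements of `P` in the other order -/
lemma Rep.P_other {p : Γ} (hp : p ∈ R.P hL hi) : ∃ (γ : Γ) (b : SpecialLinearGroup (Fin 2) F) (w : ι → Fin 2 → F),
    γ ∈ S.gp L ∧ (∃ a : F, b.1 *ᵥ ee F = a • ee F) ∧ p = γ * S.lam i b * S.N L i (ee F) w := by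
  obtain ⟨w, b, γ, hb, hγ, h⟩ := inv_mem hp
  obtain ⟨c, hc⟩ := S.N_inv hL hi (ee F) w
  obtain ⟨a, hb⟩ := hb
  have ha : a ≠ 0 := by
    rintro rfl
    rw [zero_smul] at hb
    exact act_ne ee_ne hb
  have hb' : (b⁻¹).1 *ᵥ ee F = a⁻¹ • ee F := by
    have : a⁻¹ • (b.1 *ᵥ ee F) = ee F := by rw [hb, smul_smul, inv_mul_cancel₀ ha, one_smul]
    conv_lhs => rw [← this]
    rw [Matrix.mulVec_smul, inv_act]
  refine ⟨γ⁻¹, b⁻¹ * tv (ee F) c, -w, inv_mem hγ, ⟨a⁻¹, ?_⟩, ?_⟩
  · rw [mul_act, tv_act, om_self, mul_zero, zero_smul, add_zero, hb']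
  · have h1 := S.lam_N hi (tv (ee F) c) (ee F) (-w)
    rw [tv_act, om_self, mul_zero, zero_smul, add_zero] at h1
    calc p = (S.N L i (ee F) w * S.lam i b * γ)⁻¹ := by rw [← h, inv_inv]
      _ = γ⁻¹ * S.lam i (b⁻¹) * (S.N L i (ee F) w)⁻¹ := by rw [map_inv]; group
      _ = γ⁻¹ * S.lam i (b⁻¹) * (S.N L i (ee F) (-w) * S.lam i (tv (ee F) c)) := by rw [hc]
      _ = _ := by rw [← h1, map_mul]; simp only [mul_assoc]

end

/-- the union of the double cosets -/
def Rep.U {L : List ι} {i : ι} (hL : L.Nodup) (hi : i ∉ L) (k : ι) : Set Γ :=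
  {x | x ∈ R.P hL hi ∨ (∃ p ∈ R.P hL hi, ∃ p' ∈ R.P hL hi, x = p * S.nn i k * p') ∨
    ∃ p ∈ R.P hL hi, ∃ p' ∈ R.P hL hi, x = p * S.lam i (t0 F) * p'}

section
variable {L : List ι} {i k : ι} (hL : L.Nodup) (hi : i ∉ L)
include hL hi

lemma Rep.U_left {p x : Γ} (hp : p ∈ R.P hL hi) (hx : x ∈ R.U hL hi k) : p * x ∈ R.U hL hi k := by
  rcases hx with hx | ⟨a, ha, b, hb, rfl⟩ | ⟨a, ha, b, hb, rfl⟩
  · exact Or.inl (mul_mem hp hx)
  · exact Or.inr (Or.inl ⟨p * a, mul_mem hp ha, b, hb, by simp only [mul_assoc]⟩)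
  · exact Or.inr (Or.inr ⟨p * a, mul_mem hp ha, b, hb, by simp only [mul_assoc]⟩)

lemma Rep.U_right {p x : Γ} (hp : p ∈ R.P hL hi) (hx : x ∈ R.U hL hi k) : x * p ∈ R.U hL hi k := by
  rcases hx with hx | ⟨a, ha, b, hb, rfl⟩ | ⟨a, ha, b, hb, rfl⟩
  · exact Or.inl (mul_mem hx hp)
  · exact Or.inr (Or.inl ⟨a, ha, b * p, mul_mem hb hp, by simp only [mul_assoc]⟩)
  · exact Or.inr (Or.inr ⟨a, ha, b * p, mul_mem hb hp, by simp only [mul_assoc]⟩)

lemma Rep.U_lam (g : SpecialLinearGroup (Fin 2) F) : S.lam i g ∈ R.U hL hi k := by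
  rcases bruhat g with h | ⟨c, b, a, rfl, hb⟩
  · exact Or.inl (R.lam_mem_P hL hi h)
  · rw [map_mul, map_mul]
    exact Or.inr (Or.inr ⟨_, R.tv_mem_P hL hi c, _, R.lam_mem_P hL hi ⟨a, hb⟩, rfl⟩)

variable (hk : k ∈ L)
include hk

lemma Rep.A_mem_P : S.T i k (ee F) (ff F) ∈ R.P hL hi := by
  have := R.T_mem_P hL hi hk 1 (ff F)
  rwa [one_smul] at this

omit [DecidableEq ι] R hL hi hk in
lemma B_eq : S.T i k (-(ff F)) (ee F) = (S.T i k (ee F) (ff F))⁻¹ * S.nn i k * (S.T i k (ee F) (ff F))⁻¹ := by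
  unfold nn gn; group

lemma Rep.sq_mem_P : S.nn i k * S.nn i k ∈ R.P hL hi := by
  rw [S.nn_sq (nmem hi hk)]
  exact mul_mem (R.neg_mem_P hL hi) (R.gp_le_P hL hi (S.lam_mem hk _))

lemma Rep.T_fe_mem : S.T i k (ff F) (ee F) ∈ R.U hL hi k := by
  have hik := nmem hi hk
  have h1 : S.T i k (ff F) (ee F) = S.T i k (ee F) (ff F) * S.nn i k *
      ((S.nn i k * S.nn i k)⁻¹ * S.T i k (ee F) (ff F)) := by
    have h2 : S.T i k (ff F) (ee F) = (S.T i k (-(ff F)) (ee F))⁻¹ := by rw [S.T_neg' hik, inv_inv]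
    rw [h2]
    unfold nn gn; group
  rw [h1]
  exact Or.inr (Or.inl ⟨_, R.A_mem_P hL hi hk, _, mul_mem (inv_mem (R.sq_mem_P hL hi hk)) (R.A_mem_P hL hi hk), rfl⟩)

lemma Rep.K1 (c : F) : S.T i k (ff F) (ee F) * S.lam i (tv (ff F) c) ∈ R.U hL hi k := by
  have hik := nmem hi hk
  by_cases hc : c = 0
  · rw [hc, tv_zero, map_one, mul_one]
    exact R.T_fe_mem hL hi hk
  have h1 := S.mul' hik ((-c⁻¹) • ee F) (ff F + c⁻¹ • ee F) (ee F)
  have h2 : (-c⁻¹) • ee F + (ff F + c⁻¹ • ee F) = ff F := by rw [neg_smul]; abel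
  rw [h2] at h1
  set κ := om (ff F + c⁻¹ • ee F) ((-c⁻¹) • ee F) with hκ
  have h3 : S.T i k (ff F) (ee F) = S.T i k ((-c⁻¹) • ee F) (ee F) * S.T i k (ff F + c⁻¹ • ee F) (ee F) *
      S.lam k (tv (ee F) (-κ)) := by
    rw [h1, mul_assoc, ← map_mul, ← tv_add, add_neg_cancel, tv_zero, map_one, mul_one]
  have h4 : S.T i k (ff F + c⁻¹ • ee F) (ee F) * S.lam i (tv (ff F) c) =
      S.lam i (tv (ff F) c) * S.T i k (c⁻¹ • ee F) (ee F) := by
    rw [S.conj hik, tv_act, om_smul_left, om_ee_ff, mul_one, mul_inv_cancel₀ hc, one_smul, add_comm (c⁻¹ • ee F)]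
  have h5 : S.T i k (ff F) (ee F) * S.lam i (tv (ff F) c) =
      S.T i k ((-c⁻¹) • ee F) (ee F) * (S.lam i (tv (ff F) c) *
        (S.T i k (c⁻¹ • ee F) (ee F) * S.lam k (tv (ee F) (-κ)))) := by
    rw [h3]
    calc _ = S.T i k ((-c⁻¹) • ee F) (ee F) * S.T i k (ff F + c⁻¹ • ee F) (ee F) *
          (S.lam k (tv (ee F) (-κ)) * S.lam i (tv (ff F) c)) := by simp only [mul_assoc]
      _ = S.T i k ((-c⁻¹) • ee F) (ee F) * (S.T i k (ff F + c⁻¹ • ee F) (ee F) * S.lam i (tv (ff F) c)) *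
          S.lam k (tv (ee F) (-κ)) := by rw [S.comm hik.symm]; simp only [mul_assoc]
      _ = _ := by rw [h4]; simp only [mul_assoc]
  rw [h5]
  exact R.U_left hL hi (R.T_mem_P hL hi hk _ _) (R.U_right hL hi
    (mul_mem (R.T_mem_P hL hi hk _ _) (R.gp_le_P hL hi (S.lam_mem hk _))) (R.U_lam hL hi _))

end

section
variable {L' : List ι} {i k : ι} (hL : (k :: L').Nodup) (hi : i ∉ k :: L')
include hL hi

lemma Rep.K2 (w : ι → Fin 2 → F) (g : SpecialLinearGroup (Fin 2) F) :
    S.N (k :: L') i (ff F) w * S.lam i g ∈ R.U hL hi k := by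
  by_cases h0 : (g.1 *ᵥ ee F) 0 = 0
  · -- `g e = β f`
    set β := (g.1 *ᵥ ee F) 1 with hβ
    have hge : g.1 *ᵥ ee F = β • ff F := by
      conv_lhs => rw [decomp (g.1 *ᵥ ee F), h0, zero_smul, zero_add]
    have hβ0 : β ≠ 0 := by
      intro h
      rw [h, zero_smul] at hge
      exact act_ne ee_ne hge
    have h1 : g.1 *ᵥ (β⁻¹ • ee F) = ff F := by
      rw [Matrix.mulVec_smul, hge, smul_smul, inv_mul_cancel₀ hβ0, one_smul]
    have h2 : S.N (k :: L') i (ff F) w * S.lam i g = S.lam i g * S.N (k :: L') i (β⁻¹ • ee F) w := by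
      rw [S.lam_N hi, h1]
    rw [h2]
    exact R.U_right hL hi (R.N_mem_P hL hi _ _) (R.U_lam hL hi g)
  · set α := (g.1 *ᵥ ee F) 0 with hα
    set β := (g.1 *ᵥ ee F) 1 with hβ
    set c := β / α with hc
    have hg : g = tv (ff F) c * ((tv (ff F) c)⁻¹ * g) := by group
    have hb : ((tv (ff F) c)⁻¹ * g).1 *ᵥ ee F = α • ee F := by
      have h1 : g.1 *ᵥ ee F = (tv (ff F) c).1 *ᵥ (α • ee F) := by
        rw [tv_act, om_smul_left, om_ee_ff]
        conv_lhs => rw [decomp (g.1 *ᵥ ee F), ← hα, ← hβ]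
        congr 2
        rw [hc]; field_simp
      rw [mul_act, h1, inv_act]
    rw [hg, map_mul, ← mul_assoc]
    refine R.U_right hL hi (R.lam_mem_P hL hi ⟨α, hb⟩) ?_
    -- restrict `w` to the list
    let w' : ι → Fin 2 → F := fun j => if j ∈ k :: L' then w j else 0
    have hw' : S.N (k :: L') i (ff F) w = S.N (k :: L') i (ff F) w' :=
      S.N_congr (fun j hj => by simp only [w']; rw [if_pos hj])
    rw [hw']
    by_cases hz : w' = 0
    · rw [hz, S.N_zero (w := 0) hi (fun _ _ => rfl), one_mul]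
      exact R.U_lam hL hi _
    · obtain ⟨γ, hγ, h1⟩ := R.trans hL w' (fun j hj => by simp only [w']; rw [if_neg hj]) hz
      have h2 := R.conj_N hL hi hγ (ff F) (Pi.single k (ee F))
      rw [h1, N_eq_T hi hL (by simp) _ _ (fun j _ hj => Pi.single_eq_of_ne hj _), Pi.single_eq_same] at h2
      have h3 : S.N (k :: L') i (ff F) w' * S.lam i (tv (ff F) c) =
          γ * (S.T i k (ff F) (ee F) * S.lam i (tv (ff F) c)) * γ⁻¹ := by
        calc _ = (S.N (k :: L') i (ff F) w' * γ) * (γ⁻¹ * S.lam i (tv (ff F) c)) := by group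
          _ = (γ * S.T i k (ff F) (ee F)) * (S.lam i (tv (ff F) c) * γ⁻¹) := by
              rw [← h2, S.gp_lam hi (inv_mem hγ)]
          _ = _ := by simp only [mul_assoc]
      rw [h3]
      exact R.U_right hL hi (R.gp_le_P hL hi (inv_mem hγ)) (R.U_left hL hi (R.gp_le_P hL hi hγ)
        (R.K1 hL hi (by simp) c))

/-- the key product for `t P n ⊆ U` -/
lemma Rep.K3 (β : F) : S.T i k (ff F) (β • ff F) * S.nn i k ∈ R.U hL hi k := by
  have hik : i ≠ k := nmem hi (by simp)
  have h1 : S.T i k (ff F) (β • ff F) * S.nn i k = S.nn i k * S.T i k (β • ff F) (-(ff F)) := by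
    rw [S.nn_T hik, neg_neg]
  have hnn : S.nn i k ∈ R.U hL hi k := Or.inr (Or.inl ⟨1, one_mem _, 1, one_mem _, by simp⟩)
  by_cases hβ : β = 0
  · rw [h1, hβ, zero_smul, S.T_zero' hik, mul_one]; exact hnn
  obtain ⟨g, hg1, hg2⟩ := exists_act2 (v := β • ff F) (v' := (-β⁻¹) • ee F) (by
    rw [om_smul_left, om_smul_right, om_ff_ee]; field_simp)
  have h2 : S.T i k (β • ff F) (-(ff F)) = S.T i k (-(ff F)) (β • ff F) := by
    rw [S.smul hik, ← neg_one_smul F (ff F), S.smul hik, smul_smul, smul_smul, mul_comm]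
  have h3 : S.T i k (-(ff F)) (β • ff F) = S.lam k g * S.T i k (-(ff F)) (ee F) * (S.lam k g)⁻¹ := by
    rw [S.conj' hik, hg1]; group
  have hA : S.nn i k * (S.T i k (ee F) (ff F))⁻¹ = S.T i k (ff F) (ee F) * S.nn i k := by
    rw [← S.T_neg hik, S.nn_T hik, neg_neg]
  have h4 : S.nn i k * S.T i k (β • ff F) (-(ff F)) =
      S.T i k ((-β⁻¹) • ee F) (ee F) * (S.lam i g * ((S.nn i k * S.nn i k) * (S.T i k (ee F) (ff F))⁻¹ *
        (S.lam k g)⁻¹)) := by
    rw [h2, h3, B_eq]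
    calc S.nn i k * (S.lam k g * ((S.T i k (ee F) (ff F))⁻¹ * S.nn i k * (S.T i k (ee F) (ff F))⁻¹) * (S.lam k g)⁻¹)
        = (S.nn i k * S.lam k g) * (S.T i k (ee F) (ff F))⁻¹ * S.nn i k * (S.T i k (ee F) (ff F))⁻¹ *
          (S.lam k g)⁻¹ := by simp only [mul_assoc]
      _ = S.lam i g * (S.nn i k * (S.T i k (ee F) (ff F))⁻¹) * S.nn i k * (S.T i k (ee F) (ff F))⁻¹ *
          (S.lam k g)⁻¹ := by rw [S.nn_lam' hik]; simp only [mul_assoc]
      _ = (S.lam i g * S.T i k (ff F) (ee F)) * (S.nn i k * S.nn i k) * (S.T i k (ee F) (ff F))⁻¹ *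
          (S.lam k g)⁻¹ := by rw [hA]; simp only [mul_assoc]
      _ = _ := by rw [S.conj hik, hg2]; simp only [mul_assoc]
  rw [h1, h4]
  have hk : k ∈ k :: L' := by simp
  exact R.U_left hL hi (R.T_mem_P hL hi hk _ _) (R.U_right hL hi
    (mul_mem (mul_mem (R.sq_mem_P hL hi hk) (inv_mem (R.A_mem_P hL hi hk)))
      (inv_mem (R.gp_le_P hL hi (S.lam_mem hk _)))) (R.U_lam hL hi _))

lemma Rep.t_left {x : Γ} (hx : x ∈ R.U hL hi k) : S.lam i (t0 F) * x ∈ R.U hL hi k := by
  have hik : i ≠ k := nmem hi (by simp)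
  have hk : k ∈ k :: L' := by simp
  rcases hx with hx | ⟨p, hp, p', hp', rfl⟩ | ⟨p, hp, p', hp', rfl⟩
  · exact Or.inr (Or.inr ⟨1, one_mem _, x, hx, by simp⟩)
  · rw [← mul_assoc]
    refine R.U_right hL hi hp' ?_
    obtain ⟨γ, b, w, hγ, ⟨a, hb⟩, rfl⟩ := R.P_other hL hi hp
    have ha : a ≠ 0 := by
      rintro rfl
      rw [zero_smul] at hb
      exact act_ne ee_ne hb
    -- `b = h * tv e c`
    obtain ⟨h, hh1, hh2⟩ := exists_act2 (v := a • ee F) (v' := a⁻¹ • ff F) (by
      rw [om_smul_left, om_smul_right, om_ee_ff]; field_simp)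
    obtain ⟨c, hc⟩ := eq_tv_of_fix (g := h⁻¹ * b) (by rw [mul_act, hb, ← hh1, inv_act])
    have hbc : b = h * tv (ee F) c := by rw [← hc]; group
    -- conjugate of `h` by `t`
    have hth : (t0 F * h * (t0 F)⁻¹).1 *ᵥ ee F = a⁻¹ • ee F := by
      have e1 : ((t0 F)⁻¹).1 *ᵥ ee F = - ff F := by
        have : (t0 F).1 *ᵥ (-(ff F)) = ee F := by rw [Matrix.mulVec_neg, t0_ff, neg_neg]
        conv_lhs => rw [← this]
        rw [inv_act]
      rw [mul_act, mul_act, e1, Matrix.mulVec_neg, hh2, Matrix.mulVec_neg, Matrix.mulVec_smul, t0_ff, smul_neg,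
        neg_neg]
    have hLk : i ∉ L' := fun h => hi (by simp [h])
    have hkL : k ∉ L' := (List.nodup_cons.1 hL).1
    -- moving the tail past `n`
    have htail : ∀ M : List ι, i ∉ M → k ∉ M → S.N M i (ee F) w * S.nn i k = S.nn i k * S.N M k (ee F) w := by
      intro M
      induction M with
      | nil => simp [N_nil]
      | cons m M ih =>
        intro h1 h2
        rw [List.mem_cons, not_or] at h1 h2
        rw [N_cons, N_cons, mul_assoc, ih h1.2 h2.2, ← mul_assoc, ← S.nn_third2 hik h1.1 h2.1, mul_assoc]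
    set α := w k 0 with hα
    set β := w k 1 with hβ
    have hw : w k = β • ff F + α • ee F := by rw [add_comm]; exact decomp (w k)
    have hmul := S.mul hik (ee F) (β • ff F) (α • ee F)
    set κ := om (α • ee F) (β • ff F) with hκ
    have hTk : S.T i k (ee F) (w k) = S.T i k (ee F) (β • ff F) * S.T i k (ee F) (α • ee F) *
        S.lam i (tv (ee F) (-κ)) := by
      rw [hmul, ← hw, mul_assoc, ← map_mul, ← tv_add, add_neg_cancel, tv_zero, map_one, mul_one]
    have hTα : S.T i k (ee F) (α • ee F) * S.nn i k = S.nn i k * S.T i k (α • ee F) (-(ee F)) := by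
      rw [S.nn_T hik, neg_neg]
    have hfin : S.lam i (t0 F) * (γ * S.lam i b * S.N (k :: L') i (ee F) w * S.nn i k) =
        (γ * S.lam i (t0 F * h * (t0 F)⁻¹)) * ((S.T i k (ff F) (β • ff F) * S.nn i k) *
          (S.lam k (t0 F) * S.T i k (α • ee F) (-(ee F)) * S.lam k (tv (ee F) (-κ)) * S.N L' k (ee F) w *
            S.lam k (tv (ee F) c))) := by
      have e1 : S.lam i (tv (ee F) c) * S.N (k :: L') i (ee F) w = S.N (k :: L') i (ee F) w * S.lam i (tv (ee F) c) := by
        rw [S.lam_N hi, tv_act, om_self, mul_zero, zero_smul, add_zero]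
      calc S.lam i (t0 F) * (γ * S.lam i b * S.N (k :: L') i (ee F) w * S.nn i k)
          = (S.lam i (t0 F) * γ) * S.lam i h * (S.lam i (tv (ee F) c) * S.N (k :: L') i (ee F) w) * S.nn i k := by
            rw [hbc, map_mul]; simp only [mul_assoc]
        _ = γ * (S.lam i (t0 F) * S.lam i h) * S.N (k :: L') i (ee F) w * (S.lam i (tv (ee F) c) * S.nn i k) := by
            rw [← S.gp_lam hi hγ, e1]; simp only [mul_assoc]
        _ = γ * (S.lam i (t0 F * h * (t0 F)⁻¹) * S.lam i (t0 F)) * (S.T i k (ee F) (w k) *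
              (S.N L' i (ee F) w * S.nn i k)) * S.lam k (tv (ee F) c) := by
            rw [← S.nn_lam' hik, N_cons, ← map_mul (S.lam i), ← map_mul (S.lam i)]
            have : t0 F * h * (t0 F)⁻¹ * t0 F = t0 F * h := by group
            rw [this]
            simp only [mul_assoc]
        _ = γ * S.lam i (t0 F * h * (t0 F)⁻¹) * S.lam i (t0 F) * S.T i k (ee F) (β • ff F) *
              S.T i k (ee F) (α • ee F) * (S.lam i (tv (ee F) (-κ)) * S.nn i k) * S.N L' k (ee F) w *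
                S.lam k (tv (ee F) c) := by
            rw [htail L' hLk hkL, hTk]; simp only [mul_assoc]
        _ = γ * S.lam i (t0 F * h * (t0 F)⁻¹) * (S.lam i (t0 F) * S.T i k (ee F) (β • ff F)) *
              (S.T i k (ee F) (α • ee F) * S.nn i k) * S.lam k (tv (ee F) (-κ)) * S.N L' k (ee F) w *
                S.lam k (tv (ee F) c) := by
            rw [← S.nn_lam' hik]; simp only [mul_assoc]
        _ = γ * S.lam i (t0 F * h * (t0 F)⁻¹) * S.T i k (ff F) (β • ff F) * (S.lam i (t0 F) * S.nn i k) *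
              S.T i k (α • ee F) (-(ee F)) * S.lam k (tv (ee F) (-κ)) * S.N L' k (ee F) w *
                S.lam k (tv (ee F) c) := by
            rw [S.conj hik, t0_ee, hTα]; simp only [mul_assoc]
        _ = _ := by rw [← S.nn_lam' hik]; simp only [mul_assoc]
    rw [hfin]
    refine R.U_left hL hi (mul_mem (R.gp_le_P hL hi hγ) (R.lam_mem_P hL hi ⟨a⁻¹, hth⟩)) (R.U_right hL hi ?_
      (R.K3 hL hi β))
    refine mul_mem (mul_mem (mul_mem (mul_mem (R.gp_le_P hL hi (S.lam_mem hk _)) (R.T_mem_P hL hi hk _ _))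
      (R.gp_le_P hL hi (S.lam_mem hk _))) (R.gp_le_P hL hi (S.N_mem hk (fun j hj => by simp [hj]) hkL _ _)))
      (R.gp_le_P hL hi (S.lam_mem hk _))
  · obtain ⟨w, b, γ, hb, hγ, rfl⟩ := hp
    have : S.lam i (t0 F) * (S.N (k :: L') i (ee F) w * S.lam i b * γ * S.lam i (t0 F) * p') =
        (S.N (k :: L') i (ff F) w * S.lam i (t0 F * b * t0 F)) * (γ * p') := by
      calc _ = (S.lam i (t0 F) * S.N (k :: L') i (ee F) w) * S.lam i b * (γ * S.lam i (t0 F)) * p' := by
            simp only [mul_assoc]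
        _ = _ := by rw [S.lam_N hi, t0_ee, S.gp_lam hi hγ, map_mul, map_mul]; simp only [mul_assoc]
    rw [this]
    exact R.U_right hL hi (mul_mem (R.gp_le_P hL hi hγ) hp') (R.K2 hL hi w _)

lemma Rep.lam_left (g : SpecialLinearGroup (Fin 2) F) {x : Γ} (hx : x ∈ R.U hL hi k) :
    S.lam i g * x ∈ R.U hL hi k := by
  rcases bruhat g with h | ⟨c, b, a, rfl, hb⟩
  · exact R.U_left hL hi (R.lam_mem_P hL hi h) hx
  · rw [map_mul, map_mul, mul_assoc, mul_assoc]
    exact R.U_left hL hi (R.tv_mem_P hL hi c) (R.t_left hL hi (R.U_left hL hi (R.lam_mem_P hL hi ⟨a, hb⟩) hx))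

lemma Rep.gp_sub_U {γ : Γ} (hγ : γ ∈ S.gp (i :: k :: L')) : γ ∈ R.U hL hi k := by
  have key : ∀ x ∈ S.gens (i :: k :: L'), ∀ y ∈ R.U hL hi k, x * y ∈ R.U hL hi k := by
    have hTi : ∀ l ∈ k :: L', ∀ v w, ∀ y ∈ R.U hL hi k, S.T i l v w * y ∈ R.U hL hi k := by
      intro l hl v w y hy
      have hil : i ≠ l := nmem hi hl
      by_cases hv : v = 0
      · rw [hv, S.T_zero' hil, one_mul]; exact hy
      obtain ⟨g, hg⟩ := exists_act hv
      have h1 : S.T i l v w = S.lam i g * (S.T i l (ee F) w * S.lam i g⁻¹) := by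
        rw [← mul_assoc, S.conj hil, hg, mul_assoc, ← map_mul, mul_inv_cancel, map_one, mul_one]
      rw [h1, mul_assoc, mul_assoc]
      have h2 := R.T_mem_P hL hi hl 1 w
      rw [one_smul] at h2
      exact R.lam_left hL hi _ (R.U_left hL hi h2 (R.lam_left hL hi _ hy))
    rintro x (⟨j, hj, g, rfl⟩ | ⟨j, hj, l, hl, hjl, v, w, rfl⟩) y hy
    · rw [List.mem_cons] at hj
      rcases hj with rfl | hj
      · exact R.lam_left hL hi _ hy
      · exact R.U_left hL hi (R.gp_le_P hL hi (S.lam_mem hj _)) hy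
    · rw [List.mem_cons] at hj hl
      rcases hj with rfl | hj
      · rcases hl with rfl | hl
        · exact absurd rfl hjl
        · exact hTi l hl v w y hy
      · rcases hl with rfl | hl
        · rw [S.symm hjl]; exact hTi j hj w v y hy
        · exact R.U_left hL hi (R.gp_le_P hL hi (S.T_mem hj hl hjl _ _)) hy
  have hinv : ∀ x ∈ S.gens (i :: k :: L'), x⁻¹ ∈ S.gens (i :: k :: L') := by
    rintro x (⟨j, hj, g, rfl⟩ | ⟨j, hj, l, hl, hjl, v, w, rfl⟩)
    · exact Or.inl ⟨j, hj, g⁻¹, by rw [map_inv]⟩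
    · exact Or.inr ⟨j, hj, l, hl, hjl, v, -w, by rw [S.T_neg hjl]⟩
  induction hγ using Subgroup.closure_induction_left with
  | one => exact Or.inl (one_mem _)
  | mul_left x hx y _ hy => exact key x hx y hy
  | inv_mul_cancel x hx y _ hy => exact key _ (hinv x hx) y hy

end

lemma single_ne {i j : ι} (h : j ≠ i) (v : Fin 2 → F) : (Pi.single i v : ι → Fin 2 → F) j = 0 :=
  Pi.single_eq_of_ne h _

lemma Rep.hlam_single (i : ι) (g : SpecialLinearGroup (Fin 2) F) (v : Fin 2 → F) :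
    R.ρ (S.lam i g) (Pi.single i v) = Pi.single i (g.1 *ᵥ v) := by
  rw [R.hlam, Pi.single_eq_same]
  ext j : 1
  by_cases hj : j = i
  · subst hj; simp
  · rw [Function.update_of_ne hj, Pi.single_eq_of_ne hj, Pi.single_eq_of_ne hj]

/-- **faithfulness** -/
theorem Rep.faithful {L : List ι} (hL : L.Nodup) : ∀ γ ∈ S.gp L, (∀ x, R.ρ γ x = x) → γ = 1 := by
  induction L with
  | nil =>
    intro γ hγ _
    have : S.gens ([] : List ι) = ∅ := by
      ext x; simp [gens]
    unfold gp at hγ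
    rw [this, Subgroup.closure_empty, Subgroup.mem_bot] at hγ
    exact hγ
  | cons i L ih =>
    rw [List.nodup_cons] at hL
    obtain ⟨hi, hLn⟩ := hL
    intro γ hγ hfix
    cases L with
    | nil =>
      have h1 : ∀ γ ∈ S.gp [i], ∃ g, γ = S.lam i g := by
        intro γ hγ
        induction hγ using Subgroup.closure_induction with
        | mem x hx =>
          rcases hx with ⟨j, hj, g, rfl⟩ | ⟨j, hj, l, hl, hjl, v, w, rfl⟩
          · rw [List.mem_singleton] at hj; subst hj; exact ⟨g, rfl⟩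
          · rw [List.mem_singleton] at hj hl; exact absurd (hj.trans hl.symm) hjl
        | one => exact ⟨1, by simp⟩
        | mul x y _ _ hx hy =>
          obtain ⟨a, rfl⟩ := hx
          obtain ⟨b, rfl⟩ := hy
          exact ⟨a * b, by rw [map_mul]⟩
        | inv x _ hx =>
          obtain ⟨a, rfl⟩ := hx
          exact ⟨a⁻¹, by rw [map_inv]⟩
      obtain ⟨g, rfl⟩ := h1 γ hγ
      have h2 : g = 1 := by
        apply ext_act
        · have := congrFun (hfix (Pi.single i (ee F))) i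
          rw [R.hlam_single, Pi.single_eq_same, Pi.single_eq_same] at this
          rw [this, one_act]
        · have := congrFun (hfix (Pi.single i (ff F))) i
          rw [R.hlam_single, Pi.single_eq_same, Pi.single_eq_same] at this
          rw [this, one_act]
      rw [h2, map_one]
    | cons k L' =>
      have hik : i ≠ k := nmem hi (by simp)
      -- action of `P` on the line
      have hP : ∀ p ∈ R.P hLn hi, ∃ a : F, R.ρ p (Pi.single i (ee F)) = Pi.single i (a • ee F) := by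
        rintro _ ⟨w, b, δ, ⟨a, hb⟩, hδ, rfl⟩
        refine ⟨a, ?_⟩
        rw [map_mul, map_mul, Equiv.Perm.mul_apply, Equiv.Perm.mul_apply, R.fix hδ _
          (fun j hj => single_ne (nmem hi hj).symm _), R.hlam_single, hb]
        ext j : 1
        rw [R.hN hLn hi _ _ _ (fun j hj => single_ne (nmem hi hj).symm _), Pi.single_eq_same, om_smul_left, om_self,
          mul_zero, zero_smul]
        split_ifs with hj
        · rw [single_ne (nmem hi hj).symm]
        · rfl
      have hP0 : ∀ p ∈ R.P hLn hi, ∃ a : F, a ≠ 0 ∧ R.ρ p (Pi.single i (ee F)) = Pi.single i (a • ee F) := by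
        intro p hp
        obtain ⟨a, ha⟩ := hP p hp
        refine ⟨a, ?_, ha⟩
        rintro rfl
        rw [zero_smul, Pi.single_zero] at ha
        have h1 : R.ρ p 0 = 0 := by
          obtain ⟨w, b, δ, -, hδ, rfl⟩ := hp
          rw [map_mul, map_mul, Equiv.Perm.mul_apply, Equiv.Perm.mul_apply, R.fix hδ 0 (fun _ _ => rfl), R.hlam]
          simp only [Pi.zero_apply, Matrix.mulVec_zero]
          have : Function.update (0 : ι → Fin 2 → F) i (0 : Fin 2 → F) = 0 :=
            Function.update_eq_self i (0 : ι → Fin 2 → F)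
          rw [this]
          ext j : 1
          rw [R.hN hLn hi (ee F) w 0 (fun _ _ => rfl)]
          simp
        have h2 := (R.ρ p).injective (ha.trans h1.symm)
        have h3 := congrFun h2 i
        rw [Pi.single_eq_same] at h3
        exact ee_ne h3
      rcases R.gp_sub_U hLn hi hγ with hγP | ⟨p, hp, p', hp', rfl⟩ | ⟨p, hp, p', hp', rfl⟩
      · obtain ⟨w, b, δ, -, hδ, rfl⟩ := hγP
        have hact : ∀ v : Fin 2 → F, ∀ j, (Pi.single i v : ι → Fin 2 → F) j =
            if j ∈ k :: L' then om (b.1 *ᵥ v) (ee F) • w j else (Pi.single i (b.1 *ᵥ v) : ι → Fin 2 → F) j := by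
          intro v j
          have h1 := congrFun (hfix (Pi.single i v)) j
          rw [map_mul, map_mul, Equiv.Perm.mul_apply, Equiv.Perm.mul_apply, R.fix hδ _
            (fun j hj => single_ne (nmem hi hj).symm _), R.hlam_single,
            R.hN hLn hi _ _ _ (fun j hj => single_ne (nmem hi hj).symm _), Pi.single_eq_same] at h1
          exact h1.symm
        have hb : b = 1 := by
          apply ext_act
          · have := hact (ee F) i
            rw [if_neg hi, Pi.single_eq_same, Pi.single_eq_same] at this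
            rw [← this, one_act]
          · have := hact (ff F) i
            rw [if_neg hi, Pi.single_eq_same, Pi.single_eq_same] at this
            rw [← this, one_act]
        have hw : ∀ j ∈ k :: L', w j = 0 := by
          intro j hj
          have := hact (ff F) j
          rw [if_pos hj, single_ne (nmem hi hj).symm, hb, one_act, om_ff_ee, neg_smul, one_smul] at this
          exact neg_eq_zero.1 this.symm
        rw [S.N_zero hi hw, hb, map_one, one_mul, one_mul]
        apply ih hLn δ hδ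
        intro x
        have := hfix x
        rw [S.N_zero hi hw, hb, map_one, one_mul, one_mul] at this
        exact this
      · exfalso
        obtain ⟨a, ha, h1⟩ := hP0 p' hp'
        obtain ⟨a', -, h2⟩ := hP0 p⁻¹ (inv_mem hp)
        have h3 := hfix (Pi.single i (ee F))
        rw [map_mul, map_mul, Equiv.Perm.mul_apply, Equiv.Perm.mul_apply, h1] at h3
        have h4 : R.ρ (S.nn i k) (Pi.single i (a • ee F)) = Pi.single i (a' • ee F) := by
          rw [← h2]
          have := congrArg (R.ρ p⁻¹) h3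
          rwa [← Equiv.Perm.mul_apply (R.ρ p⁻¹), ← map_mul, inv_mul_cancel, map_one, Equiv.Perm.one_apply] at this
        have h5 := congrFun h4 k
        rw [single_ne hik.symm] at h5
        have h6 : R.ρ (S.nn i k) (Pi.single i (a • ee F)) k = -(a • ee F) := by
          unfold nn gn
          rw [map_mul, map_mul, Equiv.Perm.mul_apply, Equiv.Perm.mul_apply]
          have y1 : R.ρ (S.T i k (ee F) (ff F)) (Pi.single i (a • ee F)) k = 0 := by
            rw [R.hT_j hik, Pi.single_eq_same, single_ne hik.symm, om_smul_left, om_self, mul_zero, zero_smul, add_zero]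
          have y2 : R.ρ (S.T i k (ee F) (ff F)) (Pi.single i (a • ee F)) i = a • ee F := by
            rw [R.hT_i hik, Pi.single_eq_same, single_ne hik.symm, om_zero_left, zero_smul, add_zero]
          set y := R.ρ (S.T i k (ee F) (ff F)) (Pi.single i (a • ee F)) with hy
          have z1 : R.ρ (S.T i k (-(ff F)) (ee F)) y k = -(a • ee F) := by
            rw [R.hT_j hik, y1, y2, om_smul_left, om_neg_right, om_ee_ff, zero_add, mul_neg, mul_one, neg_smul]
          have z2 : R.ρ (S.T i k (-(ff F)) (ee F)) y i = a • ee F := by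
            rw [R.hT_i hik, y1, y2, om_zero_left, zero_smul, add_zero]
          rw [R.hT_j hik, z1, z2, om_smul_left, om_self, mul_zero, zero_smul, add_zero]
        rw [h6] at h5
        rw [neg_eq_zero, smul_eq_zero] at h5
        rcases h5 with h5 | h5
        · exact ha h5
        · exact ee_ne h5
      · exfalso
        obtain ⟨a, ha, h1⟩ := hP0 p' hp'
        obtain ⟨a', -, h2⟩ := hP0 p⁻¹ (inv_mem hp)
        have h3 := hfix (Pi.single i (ee F))
        rw [map_mul, map_mul, Equiv.Perm.mul_apply, Equiv.Perm.mul_apply, h1] at h3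
        have h4 : R.ρ (S.lam i (t0 F)) (Pi.single i (a • ee F)) = Pi.single i (a' • ee F) := by
          rw [← h2]
          have := congrArg (R.ρ p⁻¹) h3
          rwa [← Equiv.Perm.mul_apply (R.ρ p⁻¹), ← map_mul, inv_mul_cancel, map_one, Equiv.Perm.one_apply] at this
        have h5 := congrFun h4 i
        rw [R.hlam_single, Pi.single_eq_same, Pi.single_eq_same, Matrix.mulVec_smul, t0_ee] at h5
        have h6 := congrFun h5 1
        simp at h6
        exact ha h6

end Sys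

end H6.SpSys
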