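import Cfsg.Agent.Lib.H6.SpSysD
import Cfsg.Agent.Lib.H6.Symp

/-!
The concrete `SL₂`-system in `Sp_2n(F)` and its universal property.
-/

set_option autoImplicit false

namespace H6.SpSys

open Matrix

variable {F : Type*} [Field F] {ι : Type*} [DecidableEq ι] [Fintype ι]

/-- coordinates in pairs -/
def en (F : Type*) [Field F] (ι : Type*) : (ι ⊕ ι → F) ≃ₗ[F] (ι → Fin 2 → F) where
  toFun x := fun i => ![x (.inl i), x (.inr i)]
  map_add' x y := by ext i j; fin_cases j <;> simp
  map_smul' c x := by ext i j; fin_cases j <;> simp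
  invFun y := Sum.elim (fun i => y i 0) (fun i => y i 1)
  left_inv x := by ext i; rcases i with i | i <;> simp
  right_inv y := by ext i j; fin_cases j <;> simp

/-- the form -/
def B (x y : ι → Fin 2 → F) : F := ∑ i, om (x i) (y i)

omit [DecidableEq ι] in
lemma B_en [DecidableEq ι] (x y : ι ⊕ ι → F) : B (en F ι x) (en F ι y) = - H6.Symp.bf x y := by
  rw [H6.Symp.bf_eq_sum]
  unfold B
  rw [← Finset.sum_neg_distrib]
  apply Finset.sum_congr rfl
  intro i _
  simp [en, om]

/-- the action of the symplectic group on pairs of coordinates -/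
def Th (ι F : Type*) [Field F] [DecidableEq ι] [Fintype ι] : symplecticGroup ι F →* Module.End F (ι → Fin 2 → F) where
  toFun g := (en F ι).toLinearMap ∘ₗ Matrix.toLin' g.1 ∘ₗ (en F ι).symm.toLinearMap
  map_one' := by
    ext x
    simp
  map_mul' g h := by
    apply LinearMap.ext
    intro x
    simp [Module.End.mul_apply]

lemma Th_apply (g : symplecticGroup ι F) (x : ι → Fin 2 → F) :
    Th ι F g x = en F ι (g.1 *ᵥ ((en F ι).symm x)) := by
  simp [Th, Matrix.toLin'_apply]

lemma Th_inj : Function.Injective (Th ι F) := by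
  intro g h hgh
  apply H6.Symp.ext_mulVec
  intro u
  have := LinearMap.congr_fun hgh (en F ι u)
  rw [Th_apply, Th_apply] at this
  simpa using this

/-- symplectic matrix of an isometry -/
def mk (f : Module.End F (ι → Fin 2 → F)) (h : ∀ x y, B (f x) (f y) = B x y) : symplecticGroup ι F :=
  ⟨LinearMap.toMatrix' ((en F ι).symm.toLinearMap ∘ₗ f ∘ₗ (en F ι).toLinearMap), by
    rw [H6.Symp.mem_iff_bf]
    intro u v
    rw [← neg_inj, ← B_en, ← B_en]
    have : ∀ u, LinearMap.toMatrix' ((en F ι).symm.toLinearMap ∘ₗ f ∘ₗ (en F ι).toLinearMap) *ᵥ u =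
        (en F ι).symm (f (en F ι u)) := by
      intro u
      rw [LinearMap.toMatrix'_mulVec]; rfl
    rw [this, this, LinearEquiv.apply_symm_apply, LinearEquiv.apply_symm_apply, h]⟩

lemma Th_mk (f : Module.End F (ι → Fin 2 → F)) (h : ∀ x y, B (f x) (f y) = B x y) : Th ι F (mk f h) = f := by
  apply LinearMap.ext
  intro x
  rw [Th_apply]
  unfold mk
  simp [LinearMap.toMatrix'_mulVec]

/-- `λ_i(g)` as a linear map -/
def sL (i : ι) (g : SpecialLinearGroup (Fin 2) F) : Module.End F (ι → Fin 2 → F) where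
  toFun x := Function.update x i (g.1 *ᵥ x i)
  map_add' x y := by
    ext j : 1
    by_cases h : j = i
    · subst h; simp [Matrix.mulVec_add]
    · simp [h]
  map_smul' c x := by
    ext j : 1
    by_cases h : j = i
    · subst h; simp [Matrix.mulVec_smul]
    · simp [h]

omit [Fintype ι] in
lemma sL_apply (i : ι) (g : SpecialLinearGroup (Fin 2) F) (x : ι → Fin 2 → F) :
    sL i g x = Function.update x i (g.1 *ᵥ x i) := rfl

/-- `T_ij(v,w)` as a linear map -/
def sT (i j : ι) (v w : Fin 2 → F) : Module.End F (ι → Fin 2 → F) where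
  toFun x := x + Pi.single i (om (x j) w • v) + Pi.single j (om (x i) v • w)
  map_add' x y := by
    simp only [Pi.add_apply, om_add_left, add_smul, Pi.single_add]; abel
  map_smul' c x := by
    simp only [Pi.smul_apply, om_smul_left, mul_smul, Pi.single_smul, RingHom.id_apply, smul_add]

omit [Fintype ι] in
lemma sT_i {i j : ι} (h : i ≠ j) (v w : Fin 2 → F) (x : ι → Fin 2 → F) : sT i j v w x i = x i + om (x j) w • v := by
  change x i + (Pi.single i _ : ι → Fin 2 → F) i + (Pi.single j _ : ι → Fin 2 → F) i = _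
  rw [Pi.single_eq_same, Pi.single_eq_of_ne h, add_zero]

omit [Fintype ι] in
lemma sT_j {i j : ι} (h : i ≠ j) (v w : Fin 2 → F) (x : ι → Fin 2 → F) : sT i j v w x j = x j + om (x i) v • w := by
  change x j + (Pi.single i _ : ι → Fin 2 → F) j + (Pi.single j _ : ι → Fin 2 → F) j = _
  rw [Pi.single_eq_same, Pi.single_eq_of_ne h.symm, add_zero]

omit [Fintype ι] in
lemma sT_ne {i j k : ι} (hi : k ≠ i) (hj : k ≠ j) (v w : Fin 2 → F) (x : ι → Fin 2 → F) : sT i j v w x k = x k := by
  change x k + (Pi.single i _ : ι → Fin 2 → F) k + (Pi.single j _ : ι → Fin 2 → F) k = _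
  rw [Pi.single_eq_of_ne hi, Pi.single_eq_of_ne hj, add_zero, add_zero]

/-- permutation of the indices -/
def sA (π : Equiv.Perm ι) : Module.End F (ι → Fin 2 → F) where
  toFun x := fun i => x (π⁻¹ i)
  map_add' _ _ := rfl
  map_smul' _ _ := rfl

omit [Fintype ι] [DecidableEq ι] in
lemma sA_apply (π : Equiv.Perm ι) (x : ι → Fin 2 → F) (i : ι) : sA π x i = x (π⁻¹ i) := rfl

lemma B_sL (i : ι) (g : SpecialLinearGroup (Fin 2) F) (x y : ι → Fin 2 → F) : B (sL i g x) (sL i g y) = B x y := by
  unfold B
  apply Finset.sum_congr rfl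
  intro k _
  rw [sL_apply, sL_apply]
  by_cases h : k = i
  · subst h; rw [Function.update_self, Function.update_self, om_act]
  · rw [Function.update_of_ne h, Function.update_of_ne h]

lemma B_sT {i j : ι} (h : i ≠ j) (v w : Fin 2 → F) (x y : ι → Fin 2 → F) : B (sT i j v w x) (sT i j v w y) = B x y := by
  rw [← sub_eq_zero]
  unfold B
  rw [← Finset.sum_sub_distrib, Finset.sum_eq_add i j h]
  · rw [sT_i h, sT_i h, sT_j h, sT_j h]
    unfold om
    simp only [Pi.add_apply, Pi.smul_apply, smul_eq_mul]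
    ring
  · intro k _ hk
    rw [sT_ne hk.1 hk.2, sT_ne hk.1 hk.2, sub_self]
  · intro h; exact absurd (Finset.mem_univ _) h
  · intro h; exact absurd (Finset.mem_univ _) h

omit [DecidableEq ι] in
lemma B_sA (π : Equiv.Perm ι) (x y : ι → Fin 2 → F) : B (sA π x) (sA π y) = B x y := by
  unfold B
  simp only [sA_apply]
  exact Equiv.sum_comp π⁻¹ (fun i => om (x i) (y i))

/-- `λ_i` in the symplectic group -/
def cL (i : ι) : SpecialLinearGroup (Fin 2) F →* symplecticGroup ι F where
  toFun g := mk (sL i g) (B_sL i g)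
  map_one' := by
    apply Th_inj
    rw [Th_mk, map_one]
    apply LinearMap.ext
    intro x
    rw [sL_apply, one_act, Function.update_eq_self]; rfl
  map_mul' g h := by
    apply Th_inj
    rw [Th_mk, map_mul, Th_mk, Th_mk]
    apply LinearMap.ext
    intro x
    rw [Module.End.mul_apply, sL_apply, sL_apply, sL_apply, Function.update_self, Function.update_idem, mul_act]

/-- permutation matrices -/
def cA : Equiv.Perm ι →* symplecticGroup ι F where
  toFun π := mk (sA π) (B_sA π)
  map_one' := by
    apply Th_inj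
    rw [Th_mk, map_one]; rfl
  map_mul' π σ := by
    apply Th_inj
    rw [Th_mk, map_mul, Th_mk, Th_mk]; rfl

/-- `T_ij(v,w)` in the symplectic group -/
def cT (i j : ι) (v w : Fin 2 → F) : symplecticGroup ι F :=
  if h : i ≠ j then mk (sT i j v w) (B_sT h v w) else 1

lemma Th_cL (i : ι) (g : SpecialLinearGroup (Fin 2) F) : Th ι F (cL i g) = sL i g := Th_mk _ (B_sL i g)
lemma Th_cA (π : Equiv.Perm ι) : Th ι F (cA π) = sA π := Th_mk _ (B_sA π)
lemma Th_cT {i j : ι} (h : i ≠ j) (v w : Fin 2 → F) : Th ι F (cT i j v w) = sT i j v w := by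
  unfold cT; rw [dif_pos h, Th_mk]

omit [Fintype ι] in
lemma sL_i (i : ι) (g : SpecialLinearGroup (Fin 2) F) (x : ι → Fin 2 → F) : sL i g x i = g.1 *ᵥ x i := by
  rw [sL_apply, Function.update_self]

omit [Fintype ι] in
lemma sL_ne {i k : ι} (h : k ≠ i) (g : SpecialLinearGroup (Fin 2) F) (x : ι → Fin 2 → F) : sL i g x k = x k := by
  rw [sL_apply, Function.update_of_ne h]

/-- the concrete system -/
def conc (ι F : Type*) [Field F] [DecidableEq ι] [Fintype ι] : Sys (symplecticGroup ι F) ι F where
  lam := cL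
  T := cT
  comm := by
    intro i j h g g'
    apply Th_inj
    rw [map_mul, map_mul, Th_cL, Th_cL]
    apply LinearMap.ext; intro x; ext k : 1
    rw [Module.End.mul_apply, Module.End.mul_apply]
    by_cases hi : k = i
    · subst hi; rw [sL_i, sL_ne h, sL_ne h, sL_i]
    · by_cases hj : k = j
      · subst hj; rw [sL_ne hi, sL_i, sL_i, sL_ne hi]
      · rw [sL_ne hi, sL_ne hj, sL_ne hj, sL_ne hi]
  symm := by
    intro i j h v w
    apply Th_inj
    rw [Th_cT h, Th_cT h.symm]
    apply LinearMap.ext; intro x; ext k : 1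
    by_cases hi : k = i
    · subst hi; rw [sT_i h, sT_j h.symm]
    · by_cases hj : k = j
      · subst hj; rw [sT_j h, sT_i h.symm]
      · rw [sT_ne hi hj, sT_ne hj hi]
  conj := by
    intro i j h g v w
    apply Th_inj
    rw [map_mul, map_mul, Th_cT h, Th_cT h, Th_cL]
    apply LinearMap.ext; intro x; ext k : 1
    rw [Module.End.mul_apply, Module.End.mul_apply]
    by_cases hi : k = i
    · subst hi; rw [sL_i, sT_i h, sT_i h, sL_i, sL_ne h.symm, Matrix.mulVec_add, Matrix.mulVec_smul]
    · by_cases hj : k = j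
      · subst hj; rw [sL_ne hi, sT_j h, sT_j h, sL_ne hi, sL_i, om_act]
      · rw [sL_ne hi, sT_ne hi hj, sT_ne hi hj, sL_ne hi]
  comm3 := by
    intro i j l h hi' hj' g v w
    apply Th_inj
    rw [map_mul, map_mul, Th_cT h, Th_cL]
    apply LinearMap.ext; intro x; ext k : 1
    rw [Module.End.mul_apply, Module.End.mul_apply]
    by_cases hi : k = i
    · subst hi; rw [sL_ne hi'.symm, sT_i h, sT_i h, sL_ne hi'.symm, sL_ne hj'.symm]
    · by_cases hj : k = j
      · subst hj; rw [sL_ne hj'.symm, sT_j h, sT_j h, sL_ne hi'.symm, sL_ne hj'.symm]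
      · rw [sT_ne hi hj]
        by_cases hl : k = l
        · subst hl; rw [sL_i, sL_i, sT_ne hi hj]
        · rw [sL_ne hl, sL_ne hl, sT_ne hi hj]
  smul := by
    intro i j h c v w
    apply Th_inj
    rw [Th_cT h, Th_cT h]
    apply LinearMap.ext; intro x; ext k : 1
    by_cases hi : k = i
    · subst hi; rw [sT_i h, sT_i h, om_smul_right, smul_smul, mul_comm]
    · by_cases hj : k = j
      · subst hj; rw [sT_j h, sT_j h, om_smul_right, smul_smul, mul_comm]
      · rw [sT_ne hi hj, sT_ne hi hj]
  mul := by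
    intro i j h v w w'
    apply Th_inj
    rw [map_mul, map_mul, Th_cT h, Th_cT h, Th_cT h, Th_cL]
    apply LinearMap.ext; intro x; ext k : 1
    rw [Module.End.mul_apply, Module.End.mul_apply]
    by_cases hi : k = i
    · subst hi
      rw [sT_i h, sT_i h, sT_j h, sT_i h, sL_i, sL_ne h.symm, tv_act]
      ext m
      simp only [Pi.add_apply, Pi.smul_apply, smul_eq_mul, om_add_left, om_add_right, om_smul_left]
      ring
    · by_cases hj : k = j
      · subst hj
        rw [sT_j h, sT_j h, sT_i h, sT_j h, sL_ne hi, sL_i, tv_act]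
        ext m
        simp only [Pi.add_apply, Pi.smul_apply, smul_eq_mul, om_add_left, om_smul_left, om_self, mul_zero, add_zero]
        ring
      · rw [sT_ne hi hj, sT_ne hi hj, sT_ne hi hj, sL_ne hi]
  com := by
    intro i j l hij hil hjl v w v' w'
    apply Th_inj
    rw [map_mul, map_mul, map_mul, Th_cT hij, Th_cT hil, Th_cT hjl]
    apply LinearMap.ext; intro x; ext k : 1
    rw [Module.End.mul_apply, Module.End.mul_apply, Module.End.mul_apply]
    by_cases hi : k = i
    · subst hi
      rw [sT_i hij, sT_i hil, sT_ne hij.symm hjl, sT_ne hij hil, sT_i hil, sT_i hij, sT_ne hil.symm hjl.symm]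
      abel
    · by_cases hj : k = j
      · subst hj
        rw [sT_j hij, sT_i hil, sT_ne hi hjl, sT_i hjl, sT_ne hi hjl, sT_j hij, sT_j hil, sT_ne hil.symm hjl.symm,
          sT_i hij]
        ext m
        unfold om
        simp only [Pi.add_apply, Pi.smul_apply, smul_eq_mul]
        ring
      · by_cases hl : k = l
        · subst hl
          rw [sT_ne hi hj, sT_j hil, sT_j hjl, sT_j hil, sT_ne hij.symm hjl, sT_ne hi hj, sT_i hij, sT_j hij]
          ext m
          unfold om
          simp only [Pi.add_apply, Pi.smul_apply, smul_eq_mul]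
          ring
        · rw [sT_ne hi hj, sT_ne hi hl, sT_ne hj hl, sT_ne hi hl, sT_ne hi hj]
  disj := by
    intro i j k l hij hkl hik hil hjk hjl v w v' w'
    apply Th_inj
    rw [map_mul, map_mul, Th_cT hij, Th_cT hkl]
    apply LinearMap.ext; intro x; ext m : 1
    rw [Module.End.mul_apply, Module.End.mul_apply]
    by_cases hi : m = i
    · subst hi
      rw [sT_i hij, sT_ne hik hil, sT_ne hjk hjl, sT_ne hik hil, sT_i hij]
    · by_cases hj : m = j
      · subst hj
        rw [sT_j hij, sT_ne hik hil, sT_ne hjk hjl, sT_ne hjk hjl, sT_j hij]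
      · rw [sT_ne hi hj]
        by_cases hk : m = k
        · subst hk
          rw [sT_i hkl, sT_i hkl, sT_ne hi hj, sT_ne hil.symm hjl.symm]
        · by_cases hl : m = l
          · subst hl
            rw [sT_j hkl, sT_j hkl, sT_ne hi hj, sT_ne hik.symm hjk.symm]
          · rw [sT_ne hk hl, sT_ne hk hl, sT_ne hi hj]

/-- the permutation action of `Sp` -/
def actSp (ι F : Type*) [Field F] [DecidableEq ι] [Fintype ι] : symplecticGroup ι F →* Equiv.Perm (ι → Fin 2 → F) :=
  MonoidHom.toHomPerm
    { toFun := fun g => (Th ι F g : (ι → Fin 2 → F) → (ι → Fin 2 → F))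
      map_one' := by rw [map_one]; rfl
      map_mul' := fun g h => by rw [map_mul]; rfl }

lemma actSp_apply (g : symplecticGroup ι F) (x : ι → Fin 2 → F) : actSp ι F g x = Th ι F g x := rfl

/-- product of systems -/
def Sys.prod {Γ Δ : Type*} [Group Γ] [Group Δ] {κ : Type*} (S : Sys Γ κ F) (S' : Sys Δ κ F) : Sys (Γ × Δ) κ F where
  lam i := (S.lam i).prod (S'.lam i)
  T i j v w := (S.T i j v w, S'.T i j v w)
  comm h g g' := Prod.ext (S.comm h g g') (S'.comm h g g')
  symm h v w := Prod.ext (S.symm h v w) (S'.symm h v w)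
  conj h g v w := Prod.ext (S.conj h g v w) (S'.conj h g v w)
  comm3 h1 h2 h3 g v w := Prod.ext (S.comm3 h1 h2 h3 g v w) (S'.comm3 h1 h2 h3 g v w)
  smul h c v w := Prod.ext (S.smul h c v w) (S'.smul h c v w)
  mul h v w w' := Prod.ext (S.mul h v w w') (S'.mul h v w w')
  com h1 h2 h3 v w v' w' := Prod.ext (S.com h1 h2 h3 v w v' w') (S'.com h1 h2 h3 v w v' w')
  disj h1 h2 h3 h4 h5 h6 v w v' w' := Prod.ext (S.disj h1 h2 h3 h4 h5 h6 v w v' w') (S'.disj h1 h2 h3 h4 h5 h6 v w v' w')

/-- compatibility for a system mapping to the concrete one -/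
def repOf {Γ : Type*} [Group Γ] (S : Sys Γ ι F) (f : Γ →* symplecticGroup ι F)
    (h1 : ∀ i g, f (S.lam i g) = cL i g) (h2 : ∀ {i j}, i ≠ j → ∀ v w, f (S.T i j v w) = cT i j v w) : Sys.Rep S where
  ρ := (actSp ι F).comp f
  hlam i g x := by
    rw [MonoidHom.comp_apply, h1, actSp_apply, Th_cL, sL_apply]
  hT := by
    intro i j h v w x
    rw [MonoidHom.comp_apply, h2 h, actSp_apply, Th_cT h]
    ext k : 1
    by_cases hj : k = j
    · subst hj; rw [sT_j h, Function.update_self]
    · by_cases hi : k = i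
      · subst hi; rw [sT_i h, Function.update_of_ne hj, Function.update_self]
      · rw [sT_ne hi hj, Function.update_of_ne hj, Function.update_of_ne hi]

/-- the concrete system generates -/
theorem conc_top (H : Subgroup (symplecticGroup ι F)) (h1 : ∀ i g, cL i g ∈ H)
    (h2 : ∀ {i j}, i ≠ j → ∀ v w, cT i j v w ∈ H) : H = ⊤ := by
  apply H6.Symp.eq_top_of_tv_mem
  intro a u
  by_cases hu : u = 0
  · have : H6.Symp.tv a u = 1 := by
      apply H6.Symp.ext_mulVec
      intro x
      rw [H6.Symp.tv_mulVec, hu, H6.Symp.bf_zero_left]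
      simp
    rw [this]; exact one_mem _
  have hw0 : en F ι u ≠ 0 := fun h => hu ((en F ι).map_eq_zero_iff.1 h)
  obtain ⟨k, hk⟩ : ∃ k, en F ι u k ≠ 0 := by
    by_contra hcon
    push Not at hcon
    exact hw0 (funext hcon)
  set R := repOf (conc ι F) (MonoidHom.id _) (fun _ _ => rfl) (fun _ _ _ => rfl) with hR
  -- list with head k
  have hmem : ∀ j, j ∈ k :: (Finset.univ.erase k : Finset ι).toList := by
    intro j
    by_cases hj : j = k
    · simp [hj]
    · simp [hj]
  have hnd : (k :: (Finset.univ.erase k : Finset ι).toList).Nodup := by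
    rw [List.nodup_cons]
    exact ⟨by simp, Finset.nodup_toList _⟩
  obtain ⟨γ, hγ, hγ1⟩ := R.trans hnd (en F ι u) (fun j hj => absurd (hmem j) hj) hw0
  have hγH : γ ∈ H := by
    have : (conc ι F).gp (k :: (Finset.univ.erase k : Finset ι).toList) ≤ H := by
      apply (Subgroup.closure_le _).2
      rintro x (⟨j, _, g, rfl⟩ | ⟨j, _, l, _, hjl, v, w, rfl⟩)
      · exact h1 j g
      · exact h2 hjl v w
    exact this hγ
  have hγ2 : Th ι F γ (Pi.single k (ee F)) = en F ι u := hγ1
  -- transvection as a conjugate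
  have hconj : H6.Symp.tv a u = γ * cL k (tv (ee F) a) * γ⁻¹ := by
    rw [eq_mul_inv_iff_mul_eq]
    set z := (en F ι).symm (Pi.single k (ee F)) with hz
    have hu' : u = γ.1 *ᵥ z := by
      rw [Th_apply] at hγ2
      exact ((en F ι).injective hγ2).symm
    have htv : cL k (tv (ee F) a) = H6.Symp.tv a z := by
      apply Th_inj
      rw [Th_cL]
      apply LinearMap.ext
      intro x
      rw [Th_apply, H6.Symp.tv_mulVec, map_add, LinearEquiv.apply_symm_apply, map_smul, hz,
        LinearEquiv.apply_symm_apply]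
      have hb : H6.Symp.bf ((en F ι).symm (Pi.single k (ee F))) ((en F ι).symm x) = om (x k) (ee F) := by
        rw [← neg_neg (H6.Symp.bf _ _), ← B_en, LinearEquiv.apply_symm_apply, LinearEquiv.apply_symm_apply]
        unfold B
        rw [Finset.sum_eq_single k]
        · rw [Pi.single_eq_same, ← om_swap]
        · intro b _ hb
          rw [Pi.single_eq_of_ne hb, om_zero_left]
        · intro h; exact absurd (Finset.mem_univ _) h
      rw [hb, sL_apply, tv_act]
      ext j : 1
      by_cases hj : j = k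
      · subst hj; simp
      · simp [hj]
    rw [htv, hu', ← H6.Symp.tv_conj]
    group
  rw [hconj]
  exact mul_mem (mul_mem hγH (h1 _ _)) (inv_mem hγH)

/-- **universal property** of `Sp`: every system comes from a homomorphism -/
theorem univ {Γ : Type*} [Group Γ] (S : Sys Γ ι F) :
    ∃ φ : symplecticGroup ι F →* Γ, (∀ i g, φ (cL i g) = S.lam i g) ∧
      ∀ {i j}, i ≠ j → ∀ v w, φ (cT i j v w) = S.T i j v w := by
  set P := S.prod (conc ι F) with hP
  have hp1 : ∀ i g, (MonoidHom.snd Γ (symplecticGroup ι F)) (P.lam i g) = cL i g := fun _ _ => rfl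
  have hp2 : ∀ {i j}, i ≠ j → ∀ v w, (MonoidHom.snd Γ (symplecticGroup ι F)) (P.T i j v w) = cT i j v w :=
    fun _ _ _ => rfl
  set R := repOf P (MonoidHom.snd Γ _) hp1 hp2 with hR
  set L : List ι := (Finset.univ : Finset ι).toList with hL
  have hnd : L.Nodup := Finset.nodup_toList _
  have hmem : ∀ j, j ∈ L := fun j => by simp [hL]
  set G := P.gp L with hG
  let f : G →* symplecticGroup ι F := (MonoidHom.snd Γ _).comp G.subtype
  have hinj : Function.Injective f := by
    rw [injective_iff_map_eq_one]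
    intro γ hγ
    apply Subtype.ext
    apply R.faithful hnd γ.1 γ.2
    intro x
    change actSp ι F (f γ) x = x
    rw [hγ, map_one]; rfl
  have hsurj : Function.Surjective f := by
    rw [← MonoidHom.range_eq_top]
    apply conc_top
    · intro i g
      exact ⟨⟨P.lam i g, P.lam_mem (hmem i) g⟩, rfl⟩
    · intro i j h v w
      exact ⟨⟨P.T i j v w, P.T_mem (hmem i) (hmem j) h v w⟩, rfl⟩
  let e : G ≃* symplecticGroup ι F := MulEquiv.ofBijective f ⟨hinj, hsurj⟩
  refine ⟨(MonoidHom.fst Γ _).comp (G.subtype.comp e.symm.toMonoidHom), ?_, ?_⟩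
  · intro i g
    have : e.symm (cL i g) = ⟨P.lam i g, P.lam_mem (hmem i) g⟩ := by
      rw [MulEquiv.symm_apply_eq]; rfl
    change (e.symm (cL i g)).1.1 = _
    rw [this]; rfl
  · intro i j h v w
    have : e.symm (cT i j v w) = ⟨P.T i j v w, P.T_mem (hmem i) (hmem j) h v w⟩ := by
      rw [MulEquiv.symm_apply_eq]; rfl
    change (e.symm (cT i j v w)).1.1 = _
    rw [this]; rfl

end H6.SpSys
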